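import Cfsg.Agent.H604.OZ.Basic
import Cfsg.Agent.Blocks.ExistsModular

/-!
# S4842: the excess inequality for several classes

`h : One χ x`, `c = |C(x)|`, `d = χ(1)`.

* `MeanGE χ g b` : the mean of `|χ|²` over the Galois conjugates of `g` is at least `b`;
* `excess_list`  : Galois classes `y i` (`f i` classes each), mean at least `b i`:
  `c * ∑ f i (b i - 1) / |C(y i)| ≤ 1`;
* `rat`          : a rational element has an integral value; `dvd_of_elem`, `dvd_of_deg` divisibility.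
-/

set_option autoImplicit false
set_option linter.unusedSectionVars false

open Cfsg Cfsg.Agent.Characters Cfsg.Agent.H686.CharKit Cfsg.Agent.H732.VZ Cfsg.Agent.H604.OZ

namespace Cfsg.Agent.H849.OZ

universe u

variable {G : Type u} [Group G] [Finite G]

/-- The mean of `|χ|²` over the Galois conjugates of `g` is at least `b`. -/
def MeanGE (χ : IrrCharacter G) (g : G) (b : ℝ) : Prop :=
  haveI : NeZero (Nat.card G) := ⟨Nat.card_pos.ne'⟩
  (Fintype.card (ZMod (Nat.card G))ˣ : ℝ) * b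
    ≤ ∑ m : (ZMod (Nat.card G))ˣ, Complex.normSq ((χ : G → ℂ) (g ^ (m : ZMod (Nat.card G)).val))

/-- A Galois orbit of classes: the classes of the `y ^ t`, `t ∈ T`. -/
structure GalOrb (y : G) (T : Finset ℕ) : Prop where
  cop : ∀ t ∈ T, t.Coprime (Nat.card G)
  cover : ∀ m : ℕ, m.Coprime (Nat.card G) → ∃ t ∈ T, IsConj (y ^ m) (y ^ t)
  inj : ∀ t ∈ T, ∀ t' ∈ T, IsConj (y ^ t) (y ^ t') → t = t'

/-- A rational element. -/
theorem galOrb_one {y : G} (hy : ∀ m : ℕ, m.Coprime (Nat.card G) → IsConj (y ^ m) y) : GalOrb y {1} where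
  cop := by simp
  cover := fun m hm => ⟨1, by simp, by rw [pow_one]; exact hy m hm⟩
  inj := by
    intro t ht t' ht' _
    rw [Finset.mem_singleton] at ht ht'
    rw [ht, ht']

/-- Two Galois conjugate classes. -/
theorem galOrb_two {y : G} {k : ℕ} (hk : k.Coprime (Nat.card G)) (hne : ¬ IsConj y (y ^ k))
    (hy : ∀ m : ℕ, m.Coprime (Nat.card G) → IsConj (y ^ m) y ∨ IsConj (y ^ m) (y ^ k)) : GalOrb y {1, k} where
  cop := by
    intro t ht
    rw [Finset.mem_insert, Finset.mem_singleton] at ht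
    rcases ht with rfl | rfl
    · simp
    · exact hk
  cover := fun m hm => by
    rcases hy m hm with h | h
    · exact ⟨1, by simp, by rwa [pow_one]⟩
    · exact ⟨k, by simp, h⟩
  inj := by
    intro t ht t' ht' h
    rw [Finset.mem_insert, Finset.mem_singleton] at ht ht'
    rcases ht with rfl | rfl <;> rcases ht' with rfl | rfl
    · rfl
    · rw [pow_one] at h
      exact absurd h hne
    · rw [pow_one] at h
      exact absurd h.symm hne
    · rfl

section sets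

variable {y : G} {T : Finset ℕ}

theorem isConj_pow {a b : G} (h : IsConj a b) (m : ℕ) : IsConj (a ^ m) (b ^ m) := by
  obtain ⟨c, rfl⟩ := isConj_iff.1 h
  exact isConj_iff.2 ⟨c, conj_pow.symm⟩

/-- An inverse modulo the group order. -/
theorem exists_inv {m : ℕ} (hm : m.Coprime (Nat.card G)) :
    ∃ k : ℕ, k.Coprime (Nat.card G) ∧ ∀ g : G, (g ^ m) ^ k = g := by
  have : NeZero (Nat.card G) := ⟨Nat.card_pos.ne'⟩
  refine ⟨((ZMod.unitOfCoprime m hm)⁻¹ : (ZMod (Nat.card G))ˣ).val.val, ZMod.val_coe_unit_coprime _, fun g => ?_⟩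
  rw [← pow_mul]
  conv_rhs => rw [← pow_one g]
  rw [pow_eq_pow_iff_modEq]
  refine Nat.ModEq.of_dvd (_root_.orderOf_dvd_natCard g) ?_
  rw [← ZMod.natCast_eq_natCast_iff]
  push_cast
  rw [ZMod.natCast_val, ZMod.cast_id', id]
  have h1 : ((ZMod.unitOfCoprime m hm : (ZMod (Nat.card G))ˣ) : ZMod (Nat.card G)) = m := ZMod.coe_unitOfCoprime m hm
  rw [← h1, Units.mul_inv]

/-- The permutation of `T` induced by a power. -/
theorem GalOrb.exists_perm (h : GalOrb y T) {m : ℕ} (hm : m.Coprime (Nat.card G)) :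
    ∃ π : T → T, Function.Bijective π ∧ ∀ t : T, IsConj (y ^ ((t : ℕ) * m)) (y ^ ((π t : T) : ℕ)) := by
  have h1 : ∀ t : T, ∃ t' : T, IsConj (y ^ ((t : ℕ) * m)) (y ^ (t' : ℕ)) := fun t => by
    obtain ⟨t', ht', h2⟩ := h.cover _ ((h.cop t t.2).mul_left hm)
    exact ⟨⟨t', ht'⟩, h2⟩
  choose π hπ using h1
  refine ⟨π, Finite.injective_iff_bijective.1 ?_, hπ⟩
  intro t s hts
  have h2 := (hπ t).trans ((hts ▸ hπ s).symm)
  obtain ⟨k, -, hk⟩ := exists_inv (G := G) hm
  have h3 := isConj_pow h2 k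
  rw [pow_mul, pow_mul, hk, hk] at h3
  exact Subtype.ext (h.inj t t.2 s s.2 h3)

variable [Fintype G] [DecidableEq G]

open scoped Classical in
/-- The union of the classes of the `y ^ t`. -/
noncomputable def orbSet (y : G) (T : Finset ℕ) : Finset G :=
  Finset.univ.filter fun g => ∃ t ∈ T, IsConj (y ^ t) g

theorem mem_orbSet {g : G} : g ∈ orbSet y T ↔ ∃ t ∈ T, IsConj (y ^ t) g := by simp [orbSet]

theorem GalOrb.gal (h : GalOrb y T) : H695.OneZero.Gal (orbSet y T) := by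
  intro g hg k hk
  rw [mem_orbSet] at hg ⊢
  obtain ⟨t, ht, h1⟩ := hg
  obtain ⟨t', ht', h2⟩ := h.cover _ ((h.cop t ht).mul_left hk)
  rw [pow_mul] at h2
  exact ⟨t', ht', h2.symm.trans (isConj_pow h1 k)⟩

theorem card_centralizer_pow {m : ℕ} (hm : m.Coprime (Nat.card G)) (y : G) : cent (y ^ m) = cent y := by
  have h1 : Subgroup.centralizer ({y ^ m} : Set G) = Subgroup.centralizer ({y} : Set G) := by
    obtain ⟨k, -, hk⟩ := exists_inv (G := G) hm
    ext z
    rw [Subgroup.mem_centralizer_singleton_iff, Subgroup.mem_centralizer_singleton_iff]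
    constructor
    · intro h
      have h2 : Commute z ((y ^ m) ^ k) := (show Commute z (y ^ m) from h).pow_right k
      rw [hk] at h2
      exact h2
    · intro h
      exact (show Commute z y from h).pow_right m
  unfold cent
  rw [h1]

theorem card_class (g : G) [DecidablePred fun y : G => IsConj g y] :
    (Finset.univ.filter fun y : G => IsConj g y).card * cent g = Nat.card G := by
  rw [← Fintype.card_subtype, ← Nat.card_eq_fintype_card, ← CentralCharacter.index_centralizer_eq_card, mul_comm,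
    Subgroup.card_mul_index]

theorem GalOrb.card (h : GalOrb y T) : (orbSet y T).card * cent y = T.card * Nat.card G := by
  classical
  have h1 : orbSet y T = T.biUnion fun t => Finset.univ.filter fun g : G => IsConj (y ^ t) g := by
    ext g
    rw [mem_orbSet, Finset.mem_biUnion]
    simp
  rw [h1, Finset.card_biUnion]
  · rw [Finset.sum_mul]
    rw [Finset.sum_congr rfl (g := fun _ => Nat.card G) fun t ht => ?_]
    · rw [Finset.sum_const, smul_eq_mul]
    · rw [← card_centralizer_pow (h.cop t ht) y]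
      exact card_class _
  · intro t ht t' ht' hne
    rw [Function.onFun, Finset.disjoint_left]
    intro g hg hg'
    rw [Finset.mem_filter] at hg hg'
    exact hne (h.inj t ht t' ht' (hg.2.trans hg'.2.symm))

end sets

/-! ### The mean -/

section mean

variable {χ : IrrCharacter G} {y : G}

theorem MeanGE.conj {b : ℝ} (h : MeanGE χ y b) {g : G} (hg : IsConj y g) : MeanGE χ g b := by
  unfold MeanGE at h ⊢
  have : NeZero (Nat.card G) := ⟨Nat.card_pos.ne'⟩
  refine h.trans (le_of_eq (Finset.sum_congr rfl fun m _ => ?_))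
  rw [Core.classFunction_apply_eq (Core.isIrr_isClassFunction χ.2) (isConj_pow hg _)]

theorem MeanGE.pow {b : ℝ} (h : MeanGE χ y b) {k : ℕ} (hk : k.Coprime (Nat.card G)) : MeanGE χ (y ^ k) b := by
  unfold MeanGE at h ⊢
  have : NeZero (Nat.card G) := ⟨Nat.card_pos.ne'⟩
  refine h.trans (le_of_eq ?_)
  rw [← Equiv.sum_comp (Equiv.mulRight (ZMod.unitOfCoprime k hk))]
  refine Finset.sum_congr rfl fun m _ => ?_
  rw [Equiv.coe_mulRight, ← H598.NoZero.pow_unit_mul y pow_card_eq_one' m k hk]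

theorem MeanGE.mono {b b' : ℝ} (h : MeanGE χ y b) (hb : b' ≤ b) : MeanGE χ y b' := by
  unfold MeanGE at h ⊢
  have : NeZero (Nat.card G) := ⟨Nat.card_pos.ne'⟩
  exact (mul_le_mul_of_nonneg_left hb (by positivity)).trans h

/-- **The excess inequality** for Galois-stable sets. -/
theorem excess_sets [Fintype G] [DecidableEq G] {x : G} (h : One χ x) {ι : Type*} (s : Finset ι) (Y : ι → Finset G)
    (b : ι → ℝ) (hY : ∀ i ∈ s, H695.OneZero.Gal (Y i)) (hdis : ∀ i ∈ s, ∀ j ∈ s, i ≠ j → Disjoint (Y i) (Y j))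
    (hx : ∀ i ∈ s, ∀ g ∈ Y i, ¬ IsConj x g) (hb : ∀ i ∈ s, ∀ g ∈ Y i, MeanGE χ g (b i)) :
    (cent x : ℝ) * ∑ i ∈ s, ((Y i).card : ℝ) * (b i - 1) ≤ Nat.card G := by
  classical
  have hne : NeZero (Nat.card G) := ⟨Nat.card_pos.ne'⟩
  set Z : Finset G := Finset.univ.filter fun g : G => (χ : G → ℂ) g = 0 with hZ
  set U : Finset G := s.biUnion Y with hU
  have hUgal : H695.OneZero.Gal U := by
    intro g hg k hk
    rw [hU, Finset.mem_biUnion] at hg ⊢
    obtain ⟨i, hi, hg⟩ := hg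
    exact ⟨i, hi, hY i hi g hg k hk⟩
  have h1 : ∀ i ∈ s, ((Y i).card : ℝ) * b i ≤ ∑ g ∈ Y i, Complex.normSq ((χ : G → ℂ) g) := by
    intro i hi
    have h2 := Finset.sum_le_sum (hb i hi)
    rw [Finset.sum_const, nsmul_eq_mul, Finset.sum_comm] at h2
    rw [Finset.sum_congr rfl fun (m : (ZMod (Nat.card G))ˣ) _ =>
      (hY i hi).sum_pow (ZMod.val_coe_unit_coprime m) fun g => Complex.normSq ((χ : G → ℂ) g),
      Finset.sum_const, nsmul_eq_mul, Finset.card_univ] at h2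
    have hpos : (0 : ℝ) < Fintype.card (ZMod (Nat.card G))ˣ := by exact_mod_cast Fintype.card_pos
    refine le_of_mul_le_mul_left (le_trans (le_of_eq ?_) h2) hpos
    ring
  have hUZ : H695.OneZero.Gal (U ∪ Z)ᶜ := (hUgal.union (H695.OneZero.gal_zero χ)).compl
  have h2 := H695.OneZero.card_le χ hUZ fun g hg h => by
    rw [Finset.mem_compl, Finset.mem_union, not_or, hZ, Finset.mem_filter] at hg
    exact hg.2 ⟨Finset.mem_univ _, h⟩
  have hdisZ : Disjoint U Z := by
    rw [Finset.disjoint_left]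
    intro g hg hgZ
    rw [hU, Finset.mem_biUnion] at hg
    obtain ⟨i, hi, hg⟩ := hg
    exact hx i hi g hg (h.uniq g (Finset.mem_filter.1 hgZ).2)
  have h3 : ∑ g ∈ (U ∪ Z)ᶜ, Complex.normSq ((χ : G → ℂ) g)
      + ∑ g ∈ U ∪ Z, Complex.normSq ((χ : G → ℂ) g) = Fintype.card G := by
    rw [Finset.sum_compl_add_sum, H695.OneZero.sum_normSq]
  have h4 : ∑ g ∈ Z, Complex.normSq ((χ : G → ℂ) g) = 0 :=
    Finset.sum_eq_zero fun g hg => by rw [(Finset.mem_filter.1 hg).2, map_zero]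
  have hpd : (s : Set ι).PairwiseDisjoint Y := fun i hi j hj hij => hdis i hi j hj hij
  rw [Finset.sum_union hdisZ, h4, add_zero, hU, Finset.sum_biUnion hpd] at h3
  have h5 : (((U ∪ Z)ᶜ).card : ℝ) + (U.card + Z.card) = Fintype.card G := by
    rw [← Nat.cast_add, ← Finset.card_union_of_disjoint hdisZ, ← Nat.cast_add, Finset.card_compl_add_card]
  have h6 : (U.card : ℝ) = ∑ i ∈ s, ((Y i).card : ℝ) := by
    rw [hU, Finset.card_biUnion hpd]
    push_cast
    rfl
  have h7 : ∑ i ∈ s, ((Y i).card : ℝ) * (b i - 1) ≤ Z.card := by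
    have h8 := Finset.sum_le_sum h1
    have h9 : ∑ i ∈ s, ((Y i).card : ℝ) * (b i - 1) = ∑ i ∈ s, ((Y i).card : ℝ) * b i - ∑ i ∈ s, ((Y i).card : ℝ) := by
      rw [← Finset.sum_sub_distrib]
      exact Finset.sum_congr rfl fun i _ => by ring
    rw [h9]
    linarith
  have h10 : (Z.card : ℝ) * cent x = Nat.card G := by exact_mod_cast card_zeros h
  calc (cent x : ℝ) * ∑ i ∈ s, ((Y i).card : ℝ) * (b i - 1) ≤ cent x * Z.card :=
        mul_le_mul_of_nonneg_left h7 (by positivity)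
    _ = Nat.card G := by rw [← h10, mul_comm]

/-- **The excess inequality** for Galois classes `y i` (consisting of the classes of `y i ^ t`, `t ∈ T i`). -/
theorem excess_list {x : G} (h : One χ x) {ι : Type*} (s : Finset ι) (y : ι → G) (T : ι → Finset ℕ) (b : ι → ℝ)
    (hT : ∀ i ∈ s, GalOrb (y i) (T i)) (hx : ∀ i ∈ s, ¬ IsConj x (y i))
    (hdis : ∀ i ∈ s, ∀ j ∈ s, i ≠ j → ∀ m : ℕ, m.Coprime (Nat.card G) → ¬ IsConj (y i) (y j ^ m))
    (hb : ∀ i ∈ s, MeanGE χ (y i) (b i)) :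
    (cent x : ℝ) * ∑ i ∈ s, ((T i).card : ℝ) * (b i - 1) / cent (y i) ≤ 1 := by
  classical
  have := Fintype.ofFinite G
  have h1 := excess_sets h s (fun i => orbSet (y i) (T i)) b (fun i hi => (hT i hi).gal) ?_ ?_ ?_
  · have hG : (0 : ℝ) < Nat.card G := by exact_mod_cast Nat.card_pos
    have h2 : ∑ i ∈ s, ((orbSet (y i) (T i)).card : ℝ) * (b i - 1)
        = Nat.card G * ∑ i ∈ s, ((T i).card : ℝ) * (b i - 1) / cent (y i) := by
      rw [Finset.mul_sum]
      refine Finset.sum_congr rfl fun i hi => ?_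
      have hc : (0 : ℝ) < cent (y i) := by
        have : 0 < cent (y i) := Nat.card_pos
        exact_mod_cast this
      have h3 : ((orbSet (y i) (T i)).card : ℝ) * cent (y i) = (T i).card * Nat.card G := by
        exact_mod_cast (hT i hi).card
      have h4 : ((orbSet (y i) (T i)).card : ℝ) = (T i).card * Nat.card G / cent (y i) := by
        rw [eq_div_iff hc.ne', h3]
      rw [h4]
      ring
    rw [h2, mul_left_comm] at h1
    have h3 : (Nat.card G : ℝ) * (cent x * ∑ i ∈ s, ((T i).card : ℝ) * (b i - 1) / cent (y i)) ≤ Nat.card G * 1 := by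
      rwa [mul_one]
    exact le_of_mul_le_mul_left h3 hG
  · intro i hi j hj hij
    rw [Finset.disjoint_left]
    intro g hg hg'
    rw [mem_orbSet] at hg hg'
    obtain ⟨t, ht, h1⟩ := hg
    obtain ⟨t', ht', h2⟩ := hg'
    obtain ⟨k, hk, hk'⟩ := exists_inv (G := G) ((hT i hi).cop t ht)
    have h3 := isConj_pow (h1.trans h2.symm) k
    rw [hk', ← pow_mul] at h3
    exact hdis i hi j hj hij _ (((hT j hj).cop t' ht').mul_left hk) h3
  · intro i hi g hg h2
    rw [mem_orbSet] at hg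
    obtain ⟨t, ht, h1⟩ := hg
    obtain ⟨k, hk, hk'⟩ := exists_inv (G := G) ((hT i hi).cop t ht)
    have h3 := isConj_pow (h2.trans h1.symm) k
    rw [hk'] at h3
    exact hx i hi ((h.conj_pow hk).trans h3)
  · intro i hi g hg
    rw [mem_orbSet] at hg
    obtain ⟨t, ht, h1⟩ := hg
    exact ((hb i hi).pow ((hT i hi).cop t ht)).conj h1

/-! ### Values of rational elements -/

/-- The value at a rational element is an integer. -/
theorem rat (hy : ∀ m : ℕ, m.Coprime (Nat.card G) → IsConj (y ^ m) y) : ∃ k : ℤ, (χ : G → ℂ) y = k := by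
  have hint := GaloisBasic.isIntegral_apply (Core.isIrr_isCharacter χ.2) y
  refine GaloisBasic.exists_int_of_isIntegral hint (GaloisBasic.exists_rat_of_forall_ringEquiv hint.tower_top ?_)
  intro σ
  obtain ⟨m, hm, hσ⟩ := GaloisBasic.exists_pow_of_ringEquiv (G := G) σ
  rw [hσ _ (Core.isIrr_isCharacter χ.2)]
  exact Core.classFunction_apply_eq (Core.isIrr_isClassFunction χ.2) (hy m hm)

theorem meanGE_rat (hy : ∀ m : ℕ, m.Coprime (Nat.card G) → IsConj (y ^ m) y) {k : ℤ} (hk : (χ : G → ℂ) y = k) :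
    MeanGE χ y ((k : ℝ) ^ 2) := by
  unfold MeanGE
  have : NeZero (Nat.card G) := ⟨Nat.card_pos.ne'⟩
  have h1 : ∀ m : (ZMod (Nat.card G))ˣ, Complex.normSq ((χ : G → ℂ) (y ^ (m : ZMod (Nat.card G)).val)) = (k : ℝ) ^ 2 := by
    intro m
    rw [Core.classFunction_apply_eq (Core.isIrr_isClassFunction χ.2) (hy _ (ZMod.val_coe_unit_coprime m)), hk,
      Complex.normSq_intCast, pow_two]
  rw [Finset.sum_congr rfl fun m _ => h1 m, Finset.sum_const, nsmul_eq_mul, Finset.card_univ]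

/-- The values are congruent modulo the primes over `r` if the `r`-power parts agree. -/
theorem av_sub_mem {r : ℕ} (hr : r.Prime) {M : Ideal AlgInt} (hM : M.IsPrime) (hrM : (r : AlgInt) ∈ M) (g : G)
    {j n : ℕ} (hj : (g ^ j) ^ (r ^ n) = g ^ (r ^ n)) : av χ g - av χ (g ^ j) ∈ M := by
  obtain ⟨m, hm, h⟩ := CharactersDeep.BrauerLocal.congr_of_mem_achar hr hM hrM
    (CharactersDeep.AChar.mem_achar_of_isCharacter (Core.isIrr_isCharacter χ.2)) g hj
  have : av χ g - av χ (g ^ j) = m := by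
    apply Subtype.ext
    rw [h]
    rfl
  rw [this]
  exact hm

/-- The value at an `r`-element, `r` a divisor of the degree. -/
theorem av_mem {r : ℕ} (hr : r.Prime) {M : Ideal AlgInt} (hM : M.IsPrime) (hrM : (r : AlgInt) ∈ M)
    (hd : r ∣ charDegree (χ : G → ℂ)) {g : G} (hg : ∃ n, orderOf g = r ^ n) : av χ g ∈ M := by
  obtain ⟨n, hn⟩ := hg
  have h1 := av_sub_mem (χ := χ) hr hM hrM g (j := 0) (n := n) (by
    rw [pow_zero, one_pow, ← hn, pow_orderOf_eq_one])
  rw [pow_zero] at h1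
  have h2 : av χ (1 : G) = ((charDegree (χ : G → ℂ) : ℤ) : AlgInt) := by
    apply Subtype.ext
    rw [av_coe, ← charDegree_irr χ]
    simp
  have h3 : av χ (1 : G) ∈ M := by
    rw [h2, int_mem_iff hr hM hrM]
    exact_mod_cast hd
  have h4 := M.add_mem h1 h3
  rwa [sub_add_cancel] at h4

/-- `r ∣ χ(1)`, `y` a rational `r`-element: `r ∣ χ(y)`. -/
theorem rat_dvd_prime {r : ℕ} (hr : r.Prime) (hd : r ∣ charDegree (χ : G → ℂ)) {g : G} (hg : ∃ n, orderOf g = r ^ n)
    {k : ℤ} (hk : (χ : G → ℂ) g = k) : (r : ℤ) ∣ k := by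
  obtain ⟨M, hM⟩ := Blocks.ExistsModular.exists_isPModular hr
  have h1 := av_mem (χ := χ) hr hM.2.1.isPrime hM.2.2 hd hg
  have h2 : av χ g = (k : AlgInt) := by
    apply Subtype.ext
    rw [av_coe, hk]
    simp
  rwa [h2, int_mem_iff hr hM.2.1.isPrime hM.2.2] at h1

/-- `χ(1)` divides `|G : C(y)| χ(y)`, `y` rational. -/
theorem rat_dvd_deg (g : G) {k : ℤ} (hk : (χ : G → ℂ) g = k) :
    (charDegree (χ : G → ℂ) : ℤ) ∣ ((Subgroup.centralizer ({g} : Set G)).index : ℤ) * k := by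
  have h1 : IsIntegral ℤ (((Subgroup.centralizer ({g} : Set G)).index : ℂ) * (χ : G → ℂ) g / (χ : G → ℂ) 1) := by
    obtain ⟨n, ρ, hρ, hχ⟩ := χ.2
    have := CentralCharacter.isIntegral_index_mul_character_div ρ g
    have hfin : (Module.finrank ℂ (Fin n → ℂ) : ℂ) = (χ : G → ℂ) 1 := by
      rw [← hχ, Representation.char_one]
    rw [hfin, hχ] at this
    exact this
  rw [hk, ← charDegree_irr χ] at h1
  have h0 : (charDegree (χ : G → ℂ) : ℂ) ≠ 0 := by
    have := charDegree_pos χ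
    exact_mod_cast this.ne'
  obtain ⟨z, hz⟩ := GaloisBasic.exists_int_of_isIntegral h1
    ⟨((Subgroup.centralizer ({g} : Set G)).index : ℚ) * k / charDegree (χ : G → ℂ), by push_cast; rfl⟩
  refine ⟨z, ?_⟩
  rw [div_eq_iff h0] at hz
  have h2 : (((Subgroup.centralizer ({g} : Set G)).index : ℤ) * k : ℤ) = z * (charDegree (χ : G → ℂ) : ℤ) := by
    exact_mod_cast hz
  rw [h2, mul_comm]

/-- **The excess inequality for rational classes.** -/
theorem excess_rat {x : G} (h : One χ x) {ι : Type*} (s : Finset ι) (y : ι → G) (k : ι → ℤ)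
    (hy : ∀ i ∈ s, ∀ m : ℕ, m.Coprime (Nat.card G) → IsConj (y i ^ m) (y i)) (hk : ∀ i ∈ s, (χ : G → ℂ) (y i) = k i)
    (hx : ∀ i ∈ s, ¬ IsConj x (y i)) (hdis : ∀ i ∈ s, ∀ j ∈ s, i ≠ j → ¬ IsConj (y i) (y j)) :
    (cent x : ℝ) * ∑ i ∈ s, ((k i : ℝ) ^ 2 - 1) / cent (y i) ≤ 1 := by
  have h1 := excess_list h s y (fun _ => {1}) (fun i => (k i : ℝ) ^ 2) (fun i hi => galOrb_one (hy i hi)) hx
    (fun i hi j hj hij m hm h2 => hdis i hi j hj hij (h2.trans (hy j hj m hm)))
    (fun i hi => meanGE_rat (hy i hi) (hk i hi))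
  refine le_trans (le_of_eq ?_) h1
  congr 1
  refine Finset.sum_congr rfl fun i _ => ?_
  rw [Finset.card_singleton, Nat.cast_one, one_mul]

/-- **One rational class**: `n ∣ χ(y)`. -/
theorem one_class {x : G} (h : One χ x) (hy : ∀ m : ℕ, m.Coprime (Nat.card G) → IsConj (y ^ m) y) {k : ℤ}
    (hk : (χ : G → ℂ) y = k) (hx : ¬ IsConj x y) {n : ℕ} (hn : (n : ℤ) ∣ k) : cent x * (n ^ 2 - 1) ≤ cent y := by
  have h1 := excess_rat h {()} (fun _ => y) (fun _ => k) (fun _ _ => hy) (fun _ _ => hk) (fun _ _ => hx)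
    (fun i _ j _ hij => absurd rfl hij)
  rw [Finset.sum_singleton] at h1
  have hc : (0 : ℝ) < cent y := by
    have : 0 < cent y := Nat.card_pos
    exact_mod_cast this
  have hk0 : k ≠ 0 := by
    rintro rfl
    exact hx (h.uniq y (by rw [hk]; simp))
  have h2 : (n : ℤ) ^ 2 ≤ k ^ 2 := by
    have h3 : n ≤ k.natAbs := Nat.le_of_dvd (Int.natAbs_pos.2 hk0) (Int.natCast_dvd.1 hn)
    have h4 : (n : ℤ) ≤ |k| := by
      rw [Int.abs_eq_natAbs]
      exact_mod_cast h3
    rw [← sq_abs k]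
    exact pow_le_pow_left₀ (by positivity) h4 2
  have h3 : ((n : ℝ)) ^ 2 ≤ (k : ℝ) ^ 2 := by exact_mod_cast h2
  rcases Nat.eq_zero_or_pos n with h0 | h0
  · subst h0
    simp
  · have h4 : ((cent x * (n ^ 2 - 1) : ℕ) : ℝ) ≤ cent y := by
      rw [Nat.cast_mul, Nat.cast_sub (Nat.one_le_pow _ _ h0), Nat.cast_pow, Nat.cast_one]
      have h5 : (cent x : ℝ) * ((k : ℝ) ^ 2 - 1) ≤ cent y := by
        rw [← mul_div_assoc, div_le_one hc] at h1
        exact h1
      refine le_trans (mul_le_mul_of_nonneg_left (sub_le_sub_right h3 1) (by positivity)) h5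
    exact_mod_cast h4

/-- **One rational class**, `y` an `r`-element, `r ∣ χ(1)`: `c (r² - 1) ≤ |C(y)|` unless `y` is conjugate to `x`. -/
theorem one_prime {x : G} (h : One χ x) {r : ℕ} (hr : r.Prime) (hd : r ∣ charDegree (χ : G → ℂ))
    (hr' : ∃ n, orderOf y = r ^ n) (hy : ∀ m : ℕ, m.Coprime (Nat.card G) → IsConj (y ^ m) y) (hx : ¬ IsConj x y) :
    cent x * (r ^ 2 - 1) ≤ cent y := by
  obtain ⟨k, hk⟩ := rat (χ := χ) hy
  exact one_class h hy hk hx (rat_dvd_prime hr hd hr' hk)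

/-! ### Irrational elements -/

/-- AM-GM. -/
theorem amgm {ι : Type*} (s : Finset ι) (hs : s.Nonempty) (z : ι → ℝ) (hz : ∀ i ∈ s, 0 ≤ z i) {b : ℝ} (hb : 0 ≤ b)
    (h : b ^ s.card ≤ ∏ i ∈ s, z i) : (s.card : ℝ) * b ≤ ∑ i ∈ s, z i := by
  have hn : (0 : ℝ) < s.card := by exact_mod_cast hs.card_pos
  have h1 := Real.geom_mean_le_arith_mean_weighted s (fun _ => (s.card : ℝ)⁻¹) z (fun _ _ => by positivity)
    (by rw [Finset.sum_const, nsmul_eq_mul, mul_inv_cancel₀ hn.ne']) hz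
  rw [Real.finsetProd_rpow s z hz, ← Finset.mul_sum] at h1
  have h2 : b ≤ (∏ i ∈ s, z i) ^ ((s.card : ℝ)⁻¹) := by
    have h3 := Real.rpow_le_rpow (pow_nonneg hb _) h (show (0 : ℝ) ≤ (s.card : ℝ)⁻¹ by positivity)
    rwa [Real.pow_rpow_inv_natCast hb hs.card_pos.ne'] at h3
  have h4 := h2.trans h1
  calc (s.card : ℝ) * b ≤ s.card * ((s.card : ℝ)⁻¹ * ∑ i ∈ s, z i) := mul_le_mul_of_nonneg_left h4 hn.le
    _ = ∑ i ∈ s, z i := by rw [← mul_assoc, mul_inv_cancel₀ hn.ne', one_mul]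

/-- `r ∣ χ(1)`, `y` an `r`-element with Galois orbit of classes `T`: the mean is at least `b` if `b ^ |T| ≤ r²`. -/
theorem meanGE_orb {T : Finset ℕ} (hT : GalOrb y T) {r : ℕ} (hr : r.Prime) (hd : r ∣ charDegree (χ : G → ℂ))
    (hr' : ∃ n, orderOf y = r ^ n) (hy : (χ : G → ℂ) y ≠ 0) {b : ℝ} (hb : 0 ≤ b) (hbT : b ^ T.card ≤ (r : ℝ) ^ 2) :
    MeanGE χ y b := by
  classical
  have hne : NeZero (Nat.card G) := ⟨Nat.card_pos.ne'⟩
  have hχ := Core.isIrr_isCharacter χ.2
  have hcf := Core.isIrr_isClassFunction χ.2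
  have hTne : T.Nonempty := by
    obtain ⟨t, ht, -⟩ := hT.cover 1 (Nat.coprime_one_left _)
    exact ⟨t, ht⟩
  -- the product over the orbit
  have hprod : ∀ m : ℕ, m.Coprime (Nat.card G) → ∏ t ∈ T, (χ : G → ℂ) (y ^ (t * m)) = ∏ t ∈ T, (χ : G → ℂ) (y ^ t) := by
    intro m hm
    obtain ⟨π, hπ, hπ'⟩ := hT.exists_perm hm
    rw [← Finset.prod_coe_sort T (fun t => (χ : G → ℂ) (y ^ (t * m))),
      ← Finset.prod_coe_sort T (fun t => (χ : G → ℂ) (y ^ t)),
      ← Function.Bijective.prod_comp hπ (fun t : T => (χ : G → ℂ) (y ^ (t : ℕ)))]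
    exact Finset.prod_congr rfl fun t _ => Core.classFunction_apply_eq hcf (hπ' t)
  set ν : ℂ := ∏ t ∈ T, (χ : G → ℂ) (y ^ t) with hν
  have hint : IsIntegral ℤ ν := IsIntegral.prod _ fun t _ => GaloisBasic.isIntegral_apply hχ _
  obtain ⟨k, hk⟩ := GaloisBasic.exists_int_of_isIntegral hint
    (GaloisBasic.exists_rat_of_forall_ringEquiv hint.tower_top fun σ => by
      obtain ⟨m, hm, hσ⟩ := GaloisBasic.exists_pow_of_ringEquiv (G := G) σ
      rw [hν, map_prod, ← hν, ← hprod m hm]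
      refine Finset.prod_congr rfl fun t _ => ?_
      rw [hσ _ hχ, ← pow_mul])
  -- nonzero
  have hnz : ∀ t ∈ T, (χ : G → ℂ) (y ^ t) ≠ 0 := by
    intro t ht h0
    obtain ⟨σ, hσ⟩ := GaloisBasic.exists_ringEquiv_of_coprime (G := G) (hT.cop t ht)
    rw [← hσ _ hχ] at h0
    exact hy (by simpa using h0)
  have hk0 : k ≠ 0 := by
    rintro rfl
    have : ν ≠ 0 := Finset.prod_ne_zero_iff.2 hnz
    exact this (by rw [hk]; simp)
  -- divisible by `r`
  have hrk : (r : ℤ) ∣ k := by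
    obtain ⟨M, hM⟩ := Blocks.ExistsModular.exists_isPModular hr
    obtain ⟨t₀, ht₀⟩ := hTne
    have h1 : ∀ t : ℕ, t ∈ T → av χ (y ^ t) ∈ M := fun t ht => by
      refine av_mem hr hM.2.1.isPrime hM.2.2 hd ?_
      obtain ⟨n, hn⟩ := hr'
      refine ⟨n, ?_⟩
      rw [← hn]
      exact Nat.Coprime.orderOf_pow (Nat.Coprime.coprime_dvd_right (_root_.orderOf_dvd_natCard y) (hT.cop t ht)).symm
    have h2 : ∏ t ∈ T, av χ (y ^ t) = (k : AlgInt) := by
      apply Subtype.ext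
      have h3 : ((∏ t ∈ T, av χ (y ^ t) : AlgInt) : ℂ) = ∏ t ∈ T, ((av χ (y ^ t) : AlgInt) : ℂ) :=
        map_prod (algebraMap AlgInt ℂ) _ _
      rw [h3]
      have h4 : ((k : AlgInt) : ℂ) = (k : ℂ) := by simp
      rw [h4, ← hk, hν]
      exact Finset.prod_congr rfl fun t _ => av_coe χ _
    rw [← int_mem_iff hr hM.2.1.isPrime hM.2.2, ← h2]
    rw [← Finset.mul_prod_erase T _ ht₀]
    exact M.mul_mem_right _ (h1 t₀ ht₀)
  have hk2 : (r : ℝ) ^ 2 ≤ Complex.normSq ν := by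
    rw [hk, Complex.normSq_intCast]
    have h3 : r ≤ k.natAbs := Nat.le_of_dvd (Int.natAbs_pos.2 hk0) (Int.natCast_dvd.1 hrk)
    have h4 : (r : ℤ) ≤ |k| := by
      rw [Int.abs_eq_natAbs]
      exact_mod_cast h3
    have h5 : (r : ℤ) ^ 2 ≤ k * k := by
      rw [← pow_two, ← sq_abs k]
      exact pow_le_pow_left₀ (by positivity) h4 2
    exact_mod_cast h5
  -- the sum
  have h1 : ∀ m : (ZMod (Nat.card G))ˣ, (T.card : ℝ) * b
      ≤ ∑ t ∈ T, Complex.normSq ((χ : G → ℂ) (y ^ (t * (m : ZMod (Nat.card G)).val))) := by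
    intro m
    refine amgm T hTne _ (fun t _ => Complex.normSq_nonneg _) hb ?_
    rw [← map_prod, hprod _ (ZMod.val_coe_unit_coprime m)]
    exact hbT.trans hk2
  have h2 := Finset.sum_le_sum fun m (_ : m ∈ (Finset.univ : Finset (ZMod (Nat.card G))ˣ)) => h1 m
  rw [Finset.sum_const, nsmul_eq_mul, Finset.card_univ, Finset.sum_comm] at h2
  set S : ℝ := ∑ m : (ZMod (Nat.card G))ˣ, Complex.normSq ((χ : G → ℂ) (y ^ (m : ZMod (Nat.card G)).val)) with hS
  have h3 : ∀ t ∈ T, ∑ m : (ZMod (Nat.card G))ˣ,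
      Complex.normSq ((χ : G → ℂ) (y ^ (t * (m : ZMod (Nat.card G)).val))) = S := by
    intro t ht
    rw [hS]
    conv_rhs => rw [← Equiv.sum_comp (Equiv.mulRight (ZMod.unitOfCoprime t (hT.cop t ht)))]
    refine Finset.sum_congr rfl fun m _ => ?_
    rw [Equiv.coe_mulRight, ← H598.NoZero.pow_unit_mul y pow_card_eq_one' m t (hT.cop t ht), ← pow_mul]
  rw [Finset.sum_congr rfl h3, Finset.sum_const, nsmul_eq_mul] at h2
  have hn : (0 : ℝ) < T.card := by exact_mod_cast hTne.card_pos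
  unfold MeanGE
  refine le_of_mul_le_mul_left (le_trans (le_of_eq ?_) h2) hn
  ring

/-- **One Galois orbit of `f` classes** of `r`-elements, `r ∣ χ(1)`: `c f (b - 1) ≤ |C(y)|` if `b ^ f ≤ r²`. -/
theorem one_orb {x : G} (h : One χ x) {T : Finset ℕ} (hT : GalOrb y T) {r : ℕ} (hr : r.Prime)
    (hd : r ∣ charDegree (χ : G → ℂ)) (hr' : ∃ n, orderOf y = r ^ n) (hx : ¬ IsConj x y) {b : ℝ} (hb : 0 ≤ b)
    (hbT : b ^ T.card ≤ (r : ℝ) ^ 2) : (cent x : ℝ) * (T.card * (b - 1)) ≤ cent y := by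
  have h1 := excess_list h {()} (fun _ => y) (fun _ => T) (fun _ => b) (fun _ _ => hT) (fun _ _ => hx)
    (fun i _ j _ hij => absurd rfl hij)
    (fun _ _ => meanGE_orb hT hr hd hr' (fun h0 => hx (h.uniq y h0)) hb hbT)
  rw [Finset.sum_singleton] at h1
  have hc : (0 : ℝ) < cent y := by
    have : 0 < cent y := Nat.card_pos
    exact_mod_cast this
  rw [← mul_div_assoc, div_le_one hc] at h1
  exact h1

end mean

end Cfsg.Agent.H849.OZ
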