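import Cfsg.Agent.SmallSimple.TheoremCCor
import Cfsg.Agent.SmallSimple.Burnside
import Cfsg.Agent.SmallSimple.FlatBlock
import Cfsg.Agent.H732.VZ.Div
import Cfsg.Agent.H604.OZ.Basic
import Cfsg.Agent.S0191

/-!
# S4842: primes dividing the group order exactly once

`P` a Sylow subgroup of order `p`, `C(P) = P × K`, `χ` an irreducible character with exactly one class of zeros (the
class of `x`), `c = |C(x)|`, `x` `p`-regular.

* `mass` : `c * (m * M - (p - 1)) ≤ w * p`;
* `five` : the values of `χ` at the `p`-singular elements.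
-/

set_option autoImplicit false
set_option linter.unusedSectionVars false

namespace Cfsg.Agent.H849.OZ

open Cfsg Subgroup Finset
open Cfsg.Agent.Characters.Core Cfsg.Agent.Characters.Linear
open Cfsg.Agent.SmallSimple.ThetaSetup Cfsg.Agent.SmallSimple.ThetaOrtho Cfsg.Agent.SmallSimple.ThetaCount
open Cfsg.Agent.SmallSimple.TheoremC Cfsg.Agent.SmallSimple.TheoremCCor
open Cfsg.Agent.H732.VZ (One)
open scoped ComplexConjugate

universe u

section count

variable {G : Type u} [Group G] [Finite G] {p : ℕ} [Fact p.Prime] {P : Sylow p G} {K : Subgroup G}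

/-- A `p`-singular element is conjugate to some `u y`, `u ∈ P#`, `y ∈ K`. -/
theorem exists_conj (hK : IsComp p (P : Subgroup G) K) (hP : Nat.card P = p) {g : G} (hg : p ∣ orderOf g) :
    ∃ c : G, ∃ u ∈ (P : Subgroup G), u ≠ 1 ∧ ∃ y ∈ K, u * y = c * g * c⁻¹ := by
  obtain ⟨z, hz⟩ := Blocks.Orthogonality.exists_isPPart (Fact.out : p.Prime) g
  obtain ⟨y, hzy, hcomm, ⟨k, hk⟩, hy⟩ := hz
  have hz1 : z ≠ 1 := by
    rintro rfl
    rw [one_mul] at hzy
    rw [hzy] at hy
    exact hy hg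
  have hzP : IsPGroup p (zpowers z) := IsPGroup.of_card (n := k) (by rw [Nat.card_zpowers, hk])
  obtain ⟨Q, hQ⟩ := hzP.exists_le_sylow
  obtain ⟨c, hc⟩ := MulAction.exists_smul_eq G Q P
  have hu : c * z * c⁻¹ ∈ (P : Subgroup G) := by
    rw [← hc, Sylow.coe_subgroup_smul]
    refine ⟨z, hQ (mem_zpowers z), ?_⟩
    simp [MulAut.conj_apply]
  have hu1 : c * z * c⁻¹ ≠ 1 := by
    intro h
    apply hz1
    have : z = c⁻¹ * (c * z * c⁻¹) * c := by group
    rw [this, h]; group
  have hyK : c * y * c⁻¹ ∈ K := by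
    rw [hK, ← Blocks.CyclicOrtho.centralizer_eq P hP hu hu1, mem_centralizer_singleton_iff]
    refine ⟨?_, ?_⟩
    · have h1 : y * z = z * y := hcomm.eq.symm
      calc c * y * c⁻¹ * (c * z * c⁻¹) = c * (y * z) * c⁻¹ := by group
        _ = c * (z * y) * c⁻¹ := by rw [h1]
        _ = _ := by group
    · have h2 : orderOf (c * y * c⁻¹) = orderOf y := by
        have := orderOf_injective (MulAut.conj c).toMonoidHom (MulAut.conj c).injective y
        simpa using this
      rw [h2]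
      exact hy
  exact ⟨c, _, hu, hu1, _, hyK, by rw [← hzy]; group⟩

variable [Fintype G] [DecidableEq G]

open scoped Classical in
/-- The `p`-singular elements. -/
noncomputable def Sg (p : ℕ) (G : Type u) [Group G] [Fintype G] : Finset G := univ.filter fun g => p ∣ orderOf g

open scoped Classical in
/-- The elements `u y`, `u ∈ P#`, `y ∈ K`. -/
noncomputable def Dg (P : Sylow p G) (K : Subgroup G) : Finset G :=
  univ.filter fun g => ∃ u ∈ (P : Subgroup G), u ≠ 1 ∧ ∃ y ∈ K, u * y = g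

theorem mem_Sg {g : G} : g ∈ Sg p G ↔ p ∣ orderOf g := by simp [Sg]

theorem mem_Dg {g : G} : g ∈ Dg P K ↔ ∃ u ∈ (P : Subgroup G), u ≠ 1 ∧ ∃ y ∈ K, u * y = g := by simp [Dg]

theorem Dg_conj (hK : IsComp p (P : Subgroup G) K) (hP : Nat.card P = p) {s : G} (hs : s ∈ Dg P K) (h : G) :
    h * s * h⁻¹ ∈ Dg P K ↔ h ∈ normalizer ((P : Subgroup G) : Set G) := by
  rw [mem_Dg] at hs
  obtain ⟨u, hu, hu1, y, hy, rfl⟩ := hs
  rw [mem_Dg]
  constructor
  · rintro ⟨v, hv, hv1, y', hy', h1⟩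
    exact mem_normalizer_of_conj hP hu hv hv1
      ((conj_mul_eq_iff hK hP hu hu1 hv hv1 ⟨y, hy⟩ ⟨y', hy'⟩ h).1 h1.symm).1
  · intro hh
    refine ⟨h * u * h⁻¹, (mem_normalizer_iff.1 hh u).1 hu, fun h1 => hu1 ?_, h * y * h⁻¹, conj_mem hK hh hy, by group⟩
    exact conj_eq_one_iff.1 h1

theorem Dg_sub (hK : IsComp p (P : Subgroup G) K) (hP : Nat.card P = p) {s : G} (hs : s ∈ Dg P K) : s ∈ Sg p G := by
  rw [mem_Dg] at hs
  rw [mem_Sg]
  obtain ⟨u, hu, hu1, y, hy, rfl⟩ := hs
  have h1 : orderOf u = p := Blocks.CyclicOrtho.orderOf_eq P hP hu hu1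
  have h2 := ((hK y).1 hy).2
  have hc : Commute u y := hK.comm hu hy
  rw [Commute.orderOf_mul_eq_mul_orderOf_of_coprime hc
    (by rw [h1]; exact ((Fact.out : p.Prime).coprime_iff_not_dvd).2 h2), h1]
  exact dvd_mul_right _ _

/-- **The sum of a class function over the `p`-singular elements.** -/
theorem sum_sing (hK : IsComp p (P : Subgroup G) K) (hP : Nat.card P = p) (F : G → ℝ)
    (hF : ∀ g t : G, F (g * t * g⁻¹) = F t) :
    (Nat.card (normalizer ((P : Subgroup G) : Set G)) : ℝ) * ∑ t ∈ Sg p G, F t = Nat.card G * ∑ s ∈ Dg P K, F s := by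
  classical
  have hord : ∀ g t : G, orderOf (g * t * g⁻¹) = orderOf t := fun g t => by
    rw [← MulAut.conj_apply, MulEquiv.orderOf_eq]
  have h1 : ∀ g : G, ∑ s ∈ Dg P K, F s = ∑ t ∈ Sg p G, if g⁻¹ * t * g ∈ Dg P K then F t else 0 := by
    intro g
    rw [← Finset.sum_filter]
    refine Finset.sum_nbij' (fun s => g * s * g⁻¹) (fun t => g⁻¹ * t * g) ?_ ?_ ?_ ?_ ?_
    · intro s hs
      rw [mem_filter, mem_Sg, hord]
      refine ⟨mem_Sg.1 (Dg_sub hK hP hs), ?_⟩
      have h2 : g⁻¹ * (g * s * g⁻¹) * g = s := by group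
      rwa [h2]
    · intro t ht
      exact (mem_filter.1 ht).2
    · intro s _
      group
    · intro t _
      group
    · intro s _
      rw [hF]
  have h2 : (Nat.card G : ℝ) * ∑ s ∈ Dg P K, F s
      = ∑ t ∈ Sg p G, F t * (univ.filter fun g : G => g⁻¹ * t * g ∈ Dg P K).card := by
    have h3 : ∑ _g : G, ∑ s ∈ Dg P K, F s = (Nat.card G : ℝ) * ∑ s ∈ Dg P K, F s := by
      rw [Finset.sum_const, nsmul_eq_mul, Finset.card_univ, Nat.card_eq_fintype_card]
    rw [← h3, Finset.sum_congr rfl fun g _ => h1 g, Finset.sum_comm]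
    refine Finset.sum_congr rfl fun t _ => ?_
    rw [← Finset.sum_filter, Finset.sum_const, nsmul_eq_mul, mul_comm]
  have h3 : ∀ t ∈ Sg p G, (univ.filter fun g : G => g⁻¹ * t * g ∈ Dg P K).card
      = Nat.card (normalizer ((P : Subgroup G) : Set G)) := by
    intro t ht
    obtain ⟨c, u, hu, hu1, y, hy, h4⟩ := exists_conj hK hP (mem_Sg.1 ht)
    have h5 : c * t * c⁻¹ ∈ Dg P K := mem_Dg.2 ⟨u, hu, hu1, y, hy, h4⟩
    rw [Nat.card_eq_fintype_card, ← Finset.card_univ,
      ← Finset.card_map ⟨fun n : normalizer ((P : Subgroup G) : Set G) => c⁻¹ * (n : G), fun a b h =>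
        Subtype.ext (mul_left_cancel h)⟩]
    congr 1
    ext g
    rw [mem_filter, mem_map]
    constructor
    · rintro ⟨-, hg⟩
      have h6 : (g⁻¹ * c⁻¹) * (c * t * c⁻¹) * (g⁻¹ * c⁻¹)⁻¹ ∈ Dg P K := by
        have h7 : (g⁻¹ * c⁻¹) * (c * t * c⁻¹) * (g⁻¹ * c⁻¹)⁻¹ = g⁻¹ * t * g := by group
        rwa [h7]
      have h7 : (g⁻¹ * c⁻¹)⁻¹ ∈ normalizer ((P : Subgroup G) : Set G) := inv_mem ((Dg_conj hK hP h5 _).1 h6)
      refine ⟨⟨_, h7⟩, mem_univ _, ?_⟩
      change c⁻¹ * (g⁻¹ * c⁻¹)⁻¹ = g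
      group
    · rintro ⟨n, -, rfl⟩
      refine ⟨mem_univ _, ?_⟩
      have h6 := (Dg_conj hK hP h5 ((n : G)⁻¹)).2 (inv_mem n.2)
      have h7 : (n : G)⁻¹ * (c * t * c⁻¹) * (n : G)⁻¹⁻¹ = (c⁻¹ * (n : G))⁻¹ * t * (c⁻¹ * (n : G)) := by group
      rw [h7] at h6
      exact h6
  rw [h2, Finset.mul_sum]
  refine Finset.sum_congr rfl fun t ht => ?_
  rw [h3 t ht, mul_comm]

theorem sum_Dg (hK : IsComp p (P : Subgroup G) K) (hP : Nat.card P = p) [Fintype P] [Fintype K] [DecidableEq P]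
    (F : G → ℝ) : ∑ s ∈ Dg P K, F s = ∑ u ∈ univ.erase (1 : P), ∑ y : K, F ((u : G) * y) := by
  classical
  rw [← Finset.sum_product']
  symm
  refine Finset.sum_bij (fun (z : P × K) _ => (z.1 : G) * z.2) ?_ ?_ ?_ ?_
  · intro a hz
    obtain ⟨u, y⟩ := a
    rw [mem_product, mem_erase] at hz
    exact mem_Dg.2 ⟨u, u.2, fun h => hz.1.1 (Subtype.ext h), y, y.2, rfl⟩
  · intro a hz b hz' h
    obtain ⟨u, y⟩ := a
    obtain ⟨v, y'⟩ := b
    rw [mem_product, mem_erase] at hz hz'
    have h1 : (1 : G) * ((u : G) * y) * 1⁻¹ = v * y' := by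
      rw [one_mul, inv_one, mul_one]
      exact h
    obtain ⟨h2, h3⟩ := (conj_mul_eq_iff hK hP u.2 (fun h => hz.1.1 (Subtype.ext h)) v.2
      (fun h => hz'.1.1 (Subtype.ext h)) y y' 1).1 h1
    rw [one_mul, inv_one, mul_one] at h2 h3
    exact Prod.ext (Subtype.ext h2) (Subtype.ext h3)
  · intro s hs
    obtain ⟨u, hu, hu1, y, hy, rfl⟩ := mem_Dg.1 hs
    exact ⟨(⟨u, hu⟩, ⟨y, hy⟩), mem_product.2 ⟨mem_erase.2 ⟨fun h => hu1 (congrArg Subtype.val h), mem_univ _⟩,
      mem_univ _⟩, rfl⟩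
  · intro _ _
    rfl

end count

/-! ### Parseval -/

section pars

variable {A : Type u} [Group A] [Fintype A]

theorem parseval (T : Finset (IrrCharacter A)) (a : IrrCharacter A → ℂ) :
    ∑ y : A, Complex.normSq (∑ θ ∈ T, a θ * (θ : A → ℂ) y) = Nat.card A * ∑ θ ∈ T, Complex.normSq (a θ) := by
  classical
  have hA : (Nat.card A : ℂ) ≠ 0 := by exact_mod_cast Nat.card_pos.ne'
  have horth : ∀ θ ∈ T, ∀ θ' ∈ T, ∑ y : A, (θ : A → ℂ) y * conj ((θ' : A → ℂ) y)
      = if θ = θ' then (Nat.card A : ℂ) else 0 := by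
    intro θ _ θ' _
    have h := classInner_irr θ.2 θ'.2
    rw [classInner_def] at h
    rw [inv_mul_eq_iff_eq_mul₀ hA] at h
    rw [h]
    by_cases h1 : θ = θ'
    · rw [if_pos h1, if_pos (congrArg Subtype.val h1), mul_one]
    · rw [if_neg h1, if_neg fun h2 => h1 (Subtype.ext h2), mul_zero]
  have key : ((∑ y : A, Complex.normSq (∑ θ ∈ T, a θ * (θ : A → ℂ) y) : ℝ) : ℂ)
      = ((Nat.card A * ∑ θ ∈ T, Complex.normSq (a θ) : ℝ) : ℂ) := by
    push_cast
    calc ∑ y : A, (Complex.normSq (∑ θ ∈ T, a θ * (θ : A → ℂ) y) : ℂ)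
        = ∑ y : A, ∑ θ ∈ T, ∑ θ' ∈ T, a θ * conj (a θ') * ((θ : A → ℂ) y * conj ((θ' : A → ℂ) y)) := by
          refine Finset.sum_congr rfl fun y _ => ?_
          rw [← Complex.mul_conj, map_sum, Finset.sum_mul_sum]
          refine Finset.sum_congr rfl fun θ _ => Finset.sum_congr rfl fun θ' _ => ?_
          rw [map_mul]
          ring
      _ = ∑ θ ∈ T, ∑ θ' ∈ T, a θ * conj (a θ') * ∑ y : A, ((θ : A → ℂ) y * conj ((θ' : A → ℂ) y)) := by
          rw [Finset.sum_comm]
          refine Finset.sum_congr rfl fun θ _ => ?_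
          rw [Finset.sum_comm]
          refine Finset.sum_congr rfl fun θ' _ => ?_
          rw [Finset.mul_sum]
      _ = ∑ θ ∈ T, a θ * conj (a θ) * Nat.card A := by
          refine Finset.sum_congr rfl fun θ hθ => ?_
          rw [Finset.sum_eq_single θ]
          · rw [horth θ hθ θ hθ, if_pos rfl]
          · intro θ' hθ' hne
            rw [horth θ hθ θ' hθ', if_neg (Ne.symm hne), mul_zero]
          · intro h
            exact absurd hθ h
      _ = _ := by
          rw [Finset.mul_sum]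
          refine Finset.sum_congr rfl fun θ _ => ?_
          rw [← Complex.mul_conj]
          ring
  exact_mod_cast key

end pars

/-! ### The mass -/

section mass

variable {G : Type u} [Group G] [Finite G] {p : ℕ} [Fact p.Prime] {P : Sylow p G} {K : Subgroup G}

/-- The sum over `P#` of the squares of `part θ χ` is the same for conjugate `θ`. -/
theorem sum_part_orb (hK : IsComp p (P : Subgroup G) K) [Fintype P] [DecidableEq P] {θ : K → ℂ} {χ : IrrCharacter G}
    {θ' : IrrCharacter K} (hθ' : θ' ∈ orb P K θ) :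
    ∑ u ∈ univ.erase (1 : P), Complex.normSq (part (θ' : K → ℂ) (χ : G → ℂ) u)
      = ∑ u ∈ univ.erase (1 : P), Complex.normSq (part θ (χ : G → ℂ) u) := by
  obtain ⟨n, hn, h⟩ := mem_orb.1 hθ'
  refine Finset.sum_bij (fun u _ => cP hn u) ?_ ?_ ?_ ?_
  · intro u hu
    rw [mem_erase] at hu ⊢
    exact ⟨fun h1 => hu.1 ((MulEquiv.map_eq_one_iff (cP hn)).1 h1), mem_univ _⟩
  · intro u _ v _ h1
    exact (cP hn).injective h1
  · intro v hv
    rw [mem_erase] at hv
    refine ⟨(cP hn).symm v, mem_erase.2 ⟨fun h1 => hv.1 ?_, mem_univ _⟩, (cP hn).apply_symm_apply v⟩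
    rw [← (cP hn).apply_symm_apply v, h1, map_one]
  · intro u _
    rw [← h, ← part_conj hK θ (isIrr_isClassFunction χ.2) hn, ← coe_cP hn]

theorem card_centralizer (hK : IsComp p (P : Subgroup G) K) (hP : Nat.card P = p) :
    Nat.card (centralizer ((P : Subgroup G) : Set G)) = p * Nat.card K := by
  have h := Nat.card_congr (prodEquiv hK hP).toEquiv
  rw [Nat.card_prod, hP] at h
  exact h.symm

theorem card_normalizer (hK : IsComp p (P : Subgroup G) K) (hP : Nat.card P = p) {w : ℕ}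
    (hw : (centralizer ((P : Subgroup G) : Set G)).relIndex (normalizer ((P : Subgroup G) : Set G)) = w) :
    Nat.card (normalizer ((P : Subgroup G) : Set G)) = w * (p * Nat.card K) := by
  rw [← card_centralizer hK hP, ← hw, mul_comm]
  have h1 : centralizer ((P : Subgroup G) : Set G) ≤ normalizer ((P : Subgroup G) : Set G) :=
    centralizer_le_normalizer _
  rw [Subgroup.relIndex, ← Nat.card_congr (subgroupOfEquivOfLe h1).toEquiv]
  exact (Subgroup.card_mul_index _).symm

/-- **The mass inequality.** -/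
theorem mass (hK : IsComp p (P : Subgroup G) K) (hP : Nat.card P = p) {χ : IrrCharacter G} {x : G} (h : One χ x)
    (hx : ¬ p ∣ orderOf x) {w : ℕ}
    (hw : (centralizer ((P : Subgroup G) : Set G)).relIndex (normalizer ((P : Subgroup G) : Set G)) = w)
    {θ : K → ℂ} (hθ : IsIrrCharacter K θ) (hχ : χ ∈ Over P θ) [Fintype P] [DecidableEq P] {M : ℝ}
    (hM : ∑ u ∈ univ.erase (1 : P), Complex.normSq (part θ (χ : G → ℂ) u) = M) :
    (Nat.card (centralizer ({x} : Set G)) : ℝ) * ((orb P K θ).card * M - (p - 1)) ≤ w * p := by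
  classical
  have := Fintype.ofFinite G
  have := Fintype.ofFinite K
  have hpp : p.Prime := Fact.out
  have hcf := isIrr_isClassFunction χ.2
  set N := Nat.card (normalizer ((P : Subgroup G) : Set G)) with hN
  set k := Nat.card K with hk
  have hNw : N = w * (p * k) := card_normalizer hK hP hw
  have hk0 : 0 < k := Nat.card_pos
  have hG0 : 0 < Nat.card G := Nat.card_pos
  -- the sum of the squares
  have h1 := sum_sing hK hP (fun g => Complex.normSq ((χ : G → ℂ) g)) (fun g t => by rw [hcf])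
  have h2 : ∑ s ∈ Dg P K, Complex.normSq ((χ : G → ℂ) s) = k * ((orb P K θ).card * M) := by
    rw [sum_Dg hK hP]
    have h3 : ∀ u ∈ univ.erase (1 : P), ∑ y : K, Complex.normSq ((χ : G → ℂ) ((u : G) * y))
        = k * ∑ θ' ∈ orb P K θ, Complex.normSq (part (θ' : K → ℂ) (χ : G → ℂ) u) := by
      intro u hu
      rw [hk, ← parseval]
      refine Finset.sum_congr rfl fun y _ => ?_
      rw [apply_mul_orb hK hP hθ hχ (mem_erase.1 hu).1]
    rw [Finset.sum_congr rfl h3, ← Finset.mul_sum, Finset.sum_comm,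
      Finset.sum_congr rfl fun θ' hθ' => (sum_part_orb hK hθ').trans hM, Finset.sum_const, nsmul_eq_mul]
  -- the number of the elements
  have h3 := sum_sing hK hP (fun _ => (1 : ℝ)) (fun _ _ => rfl)
  have h4 : ∑ s ∈ Dg P K, (1 : ℝ) = k * (p - 1) := by
    rw [sum_Dg hK hP]
    simp only [Finset.sum_const, nsmul_eq_mul, mul_one]
    have e1 : Fintype.card (P : Subgroup G) = p := by rw [← Nat.card_eq_fintype_card]; exact hP
    have e2 : Fintype.card K = k := by rw [← Nat.card_eq_fintype_card]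
    have e3 : (univ.erase (1 : P)).card = p - 1 := by
      rw [Finset.card_erase_of_mem (mem_univ _), Finset.card_univ]
      exact congrArg (· - 1) e1
    rw [e3, Finset.card_univ, e2, Nat.cast_sub hpp.one_le, Nat.cast_one]
    ring
  rw [h2] at h1
  rw [h4] at h3
  have h5 : ∑ t ∈ Sg p G, (1 : ℝ) = (Sg p G).card := by simp
  rw [h5] at h3
  -- the zeros
  have hgal : H695.OneZero.Gal (Sg p G) := by
    intro g hg m hm
    rw [mem_Sg] at hg ⊢
    have h6 : m.Coprime (orderOf g) := Nat.Coprime.coprime_dvd_right (_root_.orderOf_dvd_natCard g) hm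
    rwa [Nat.Coprime.orderOf_pow h6.symm]
  have hnz : ∀ g ∈ Sg p G, (χ : G → ℂ) g ≠ 0 := by
    intro g hg h6
    obtain ⟨a, ha⟩ := isConj_iff.1 (h.uniq g h6)
    rw [mem_Sg, ← ha, ← MulAut.conj_apply, MulEquiv.orderOf_eq] at hg
    exact hx hg
  have h6 := H695.OneZero.sum_le χ hgal hnz
  have h7 := Cfsg.Agent.H732.VZ.card_zeros h
  set z := (univ.filter fun g : G => (χ : G → ℂ) g = 0).card with hz
  set c := Nat.card (centralizer ({x} : Set G)) with hc
  have h7' : (z : ℝ) * c = Nat.card G := by exact_mod_cast h7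
  have hc0 : (0 : ℝ) < c := by
    have : 0 < c := Nat.card_pos
    exact_mod_cast this
  have hGR : (0 : ℝ) < Nat.card G := by exact_mod_cast hG0
  have hkR : (0 : ℝ) < k := by exact_mod_cast hk0
  have hNR : (N : ℝ) = w * (p * k) := by exact_mod_cast hNw
  set T := ∑ t ∈ Sg p G, Complex.normSq ((χ : G → ℂ) t) with hT
  set s := (Sg p G).card with hs
  -- N T = |G| k m M, N s = |G| k (p - 1), T ≤ s + z, z c = |G|, N = w p k
  have h8 : (Nat.card G : ℝ) * (k * ((orb P K θ).card * M)) ≤ Nat.card G * (k * (p - 1)) + N * z := by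
    rw [← h1, ← h3, ← mul_add]
    exact mul_le_mul_of_nonneg_left h6 (by positivity)
  have h9 : (c : ℝ) * ((Nat.card G : ℝ) * (k * ((orb P K θ).card * M)))
      ≤ c * (Nat.card G * (k * (p - 1))) + (w * (p * k)) * Nat.card G := by
    have := mul_le_mul_of_nonneg_left h8 hc0.le
    rw [hNR, mul_add] at this
    have e : (c : ℝ) * (w * (p * k) * z) = (w * (p * k)) * Nat.card G := by rw [← h7']; ring
    rwa [e] at this
  have h10 : (Nat.card G : ℝ) * k * (c * ((orb P K θ).card * M - (p - 1))) ≤ (Nat.card G : ℝ) * k * (w * p) := by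
    linarith [h9]
  exact le_of_mul_le_mul_left h10 (by positivity)

theorem sum_S [Fintype P] [DecidableEq P] (hP : Nat.card P = p) (S : Finset (P →* ℂˣ)) :
    ∑ u ∈ univ.erase (1 : P), Complex.normSq (∑ l ∈ S, ((l u : ℂˣ) : ℂ)) = p * S.card - (S.card : ℝ) ^ 2 := by
  classical
  have h1 : ∑ u : P, Complex.normSq (∑ l ∈ S, ((l u : ℂˣ) : ℂ)) = p * S.card := by
    have key : ((∑ u : P, Complex.normSq (∑ l ∈ S, ((l u : ℂˣ) : ℂ)) : ℝ) : ℂ) = ((p * S.card : ℝ) : ℂ) := by
      push_cast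
      calc ∑ u : P, (Complex.normSq (∑ l ∈ S, ((l u : ℂˣ) : ℂ)) : ℂ)
          = ∑ u : P, ∑ l ∈ S, ∑ l' ∈ S, ((l u : ℂˣ) : ℂ) * conj ((l' u : ℂˣ) : ℂ) := by
            refine Finset.sum_congr rfl fun u _ => ?_
            rw [← Complex.mul_conj, map_sum, Finset.sum_mul_sum]
        _ = ∑ l ∈ S, ∑ l' ∈ S, ∑ u : P, ((l u : ℂˣ) : ℂ) * conj ((l' u : ℂˣ) : ℂ) := by
            rw [Finset.sum_comm]
            refine Finset.sum_congr rfl fun l _ => ?_
            rw [Finset.sum_comm]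
        _ = ∑ l ∈ S, (p : ℂ) := by
            refine Finset.sum_congr rfl fun l hl => ?_
            rw [Finset.sum_congr rfl fun l' _ => SmallSimple.PrimeDual.sum_hom_mul_conj l l',
              Finset.sum_ite_eq S l, if_pos hl, hP]
        _ = _ := by rw [Finset.sum_const, nsmul_eq_mul, mul_comm]
    exact_mod_cast key
  have h4 := (Finset.add_sum_erase (univ : Finset (P : Subgroup G))
    (fun u => Complex.normSq (∑ l ∈ S, ((l u : ℂˣ) : ℂ))) (mem_univ 1)).trans h1
  have h2 : Complex.normSq (∑ l ∈ S, ((l (1 : P) : ℂˣ) : ℂ)) = (S.card : ℝ) ^ 2 := by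
    have h3 : ∑ l ∈ S, ((l (1 : P) : ℂˣ) : ℂ) = ((S.card : ℝ) : ℂ) := by simp
    rw [h3, Complex.normSq_ofReal, pow_two]
  have h5 : (S.card : ℝ) ^ 2 + ∑ u ∈ univ.erase (1 : P), Complex.normSq (∑ l ∈ S, ((l u : ℂˣ) : ℂ)) = p * S.card := by
    rw [← h2]
    exact h4
  linarith

end mass


/-! ### The values -/

section five

variable {G : Type u} [Group G] [Finite G] {p : ℕ} [Fact p.Prime] {P : Sylow p G} {K : Subgroup G}

/-- **The values at the `p`-singular elements.** -/
theorem five (hK : IsComp p (P : Subgroup G) K) (hP : Nat.card P = p) {χ : IrrCharacter G} {x : G} (h : One χ x)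
    (hx : ¬ p ∣ orderOf x) {w : ℕ}
    (hw : (centralizer ((P : Subgroup G) : Set G)).relIndex (normalizer ((P : Subgroup G) : Set G)) = w)
    (hexc : ∀ e t : ℕ, e * t = p - 1 → 2 ≤ t → e ∣ w →
      w * p + Nat.card (centralizer ({x} : Set G)) * (p - 1) < Nat.card (centralizer ({x} : Set G)) * (w * (p - e))) :
    ∃ (θ : IrrCharacter K) (ε : ℤ), (ε = 1 ∨ ε = -1) ∧
      (∀ u ∈ (P : Subgroup G), u ≠ 1 → ∀ y : K, (χ : G → ℂ) (u * y) = ε * ∑ θ' ∈ orb P K θ, (θ' : K → ℂ) y) ∧
      (∃ k : ℤ, (χ : G → ℂ) 1 = ε * ∑ θ' ∈ orb P K θ, (θ' : K → ℂ) 1 + p * k) ∧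
      Nat.card (centralizer ({x} : Set G)) * (((orb P K θ).card - 1) * (p - 1)) ≤ w * p := by
  classical
  have := Fintype.ofFinite P
  have hpp : p.Prime := Fact.out
  set c := Nat.card (centralizer ({x} : Set G)) with hc
  -- `χ` is over some `θ`
  obtain ⟨u₀, hu₀, hu₀1⟩ := exists_ne_one hP
  have hne0 : (χ : G → ℂ) u₀ ≠ 0 := by
    intro h6
    obtain ⟨a, ha⟩ := isConj_iff.1 (h.uniq u₀ h6)
    apply hx
    have h7 : orderOf u₀ = p := Blocks.CyclicOrtho.orderOf_eq P hP hu₀ hu₀1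
    rw [← ha, ← MulAut.conj_apply, MulEquiv.orderOf_eq] at h7
    rw [h7]
  obtain ⟨θ, hθ⟩ := exists_mem_Over hK hP (χ := χ)
    ⟨u₀, by rw [Blocks.CyclicOrtho.orderOf_eq P hP hu₀ hu₀1], hne0⟩
  -- the stabilizer
  set e := Nat.card (stabAct hK (θ : K → ℂ)) with he
  have hew : e * (orb P K (θ : K → ℂ)).card = w := (card_stabAct_mul_card_orb hK hP θ.2).trans hw
  have hed : e ∣ p - 1 := by
    have h1 : Nat.card (MulAut P) = p - 1 := by
      have : IsCyclic (P : Subgroup G) := isCyclic_of_prime_card hP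
      rw [IsCyclic.card_mulAut, hP, Nat.totient_prime hpp]
    rw [← h1]
    exact card_subgroup_dvd_card _
  obtain ⟨t, ht⟩ := hed
  obtain ⟨NE, X, ε, d, S, hOver, -, -, -, hε, hd, hNE, hX, -, -, -⟩ := theoremC hK hP θ.2 he.symm ht.symm
  have hm0 : 0 < (orb P K (θ : K → ℂ)).card := Finset.card_pos.2 ⟨θ, mem_orb.2 ⟨1, one_mem _, tw_one _⟩⟩
  -- the constant case
  have const : ∀ a : ℤ, (a = 1 ∨ a = -1) → (∀ u : P, u ≠ 1 → part (θ : K → ℂ) (χ : G → ℂ) u = a) →
      ∃ (θ : IrrCharacter K) (ε : ℤ), (ε = 1 ∨ ε = -1) ∧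
      (∀ u ∈ (P : Subgroup G), u ≠ 1 → ∀ y : K, (χ : G → ℂ) (u * y) = ε * ∑ θ' ∈ orb P K θ, (θ' : K → ℂ) y) ∧
      (∃ k : ℤ, (χ : G → ℂ) 1 = ε * ∑ θ' ∈ orb P K θ, (θ' : K → ℂ) 1 + p * k) ∧
      c * (((orb P K θ).card - 1) * (p - 1)) ≤ w * p := by
    intro a ha hpa
    refine ⟨θ, a, ha, fun u hu hu1 y => ?_, degree_of_const hK hP θ.2 hθ hpa, ?_⟩
    · exact apply_of_const hK hP θ.2 hθ hpa (x := ⟨u, hu⟩) (fun h1 => hu1 (congrArg Subtype.val h1)) y
    · have hM : ∑ u ∈ univ.erase (1 : P), Complex.normSq (part (θ : K → ℂ) (χ : G → ℂ) u) = ((p : ℝ) - 1) := by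
        have h1 : ∀ u ∈ univ.erase (1 : P), Complex.normSq (part (θ : K → ℂ) (χ : G → ℂ) u) = 1 := by
          intro u hu
          rw [hpa u (mem_erase.1 hu).1]
          rcases ha with rfl | rfl <;> simp
        rw [Finset.sum_congr rfl h1, Finset.sum_const, Finset.card_erase_of_mem (mem_univ _), Finset.card_univ,
          nsmul_eq_mul, mul_one]
        have e1 : Fintype.card (P : Subgroup G) = p := by rw [← Nat.card_eq_fintype_card]; exact hP
        have e2 : ((Fintype.card (P : Subgroup G) - 1 : ℕ) : ℝ) = (p : ℝ) - 1 := by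
          rw [e1, Nat.cast_sub hpp.one_le, Nat.cast_one]
        exact e2
      have h1 := mass hK hP h hx hw θ.2 hθ hM
      have h2 : ((c * (((orb P K (θ : K → ℂ)).card - 1) * (p - 1)) : ℕ) : ℝ) ≤ ((w * p : ℕ) : ℝ) := by
        rw [Nat.cast_mul, Nat.cast_mul, Nat.cast_mul, Nat.cast_sub hm0, Nat.cast_sub hpp.one_le, Nat.cast_one]
        calc (c : ℝ) * (((orb P K (θ : K → ℂ)).card - 1) * (p - 1))
            = c * ((orb P K (θ : K → ℂ)).card * ((p : ℝ) - 1) - (p - 1)) := by ring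
          _ ≤ w * p := h1
      exact_mod_cast h2
  rcases (hOver χ).1 hθ with h1 | h1
  · exact const (ε χ) (hε χ h1) (hNE χ h1)
  · obtain ⟨hS, hS1, -, hpart⟩ := hX χ h1
    by_cases ht1 : t = 1
    · -- one exceptional character
      rw [ht1, mul_one] at ht
      refine const (-d) (by rcases hd with rfl | rfl <;> simp) fun u hu => ?_
      rw [hpart u hu, SmallSimple.FlatBlock.sum_hom_of_card hpp hP (by rw [hS, ← ht]) hS1 hu]
      push_cast
      ring
    · exfalso
      have ht2 : 2 ≤ t := by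
        rcases Nat.lt_or_ge t 2 with h2 | h2
        · exfalso
          have ht0 : t = 0 := by omega
          rw [ht0, mul_zero] at ht
          have := hpp.two_le
          omega
        · exact h2
      have h2 := hexc e t ht.symm ht2 ⟨_, hew.symm⟩
      have hM : ∑ u ∈ univ.erase (1 : P), Complex.normSq (part (θ : K → ℂ) (χ : G → ℂ) u)
          = p * (e : ℝ) - (e : ℝ) ^ 2 := by
        rw [← hS, ← sum_S hP (S χ)]
        refine Finset.sum_congr rfl fun u hu => ?_
        rw [hpart u (mem_erase.1 hu).1, Complex.normSq_mul]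
        rcases hd with rfl | rfl <;> simp
      have h3 := mass hK hP h hx hw θ.2 hθ hM
      have hle : e ≤ p - 1 := Nat.le_of_dvd (by have := hpp.two_le; omega) ⟨t, ht⟩
      have hle' : e ≤ p := by omega
      have h4 : ((w * p + c * (p - 1) : ℕ) : ℝ) < ((c * (w * (p - e)) : ℕ) : ℝ) := by exact_mod_cast h2
      rw [Nat.cast_add, Nat.cast_mul, Nat.cast_mul, Nat.cast_mul, Nat.cast_mul, Nat.cast_sub hpp.one_le,
        Nat.cast_sub hle', Nat.cast_one] at h4
      have h5 : (w : ℝ) = e * (orb P K (θ : K → ℂ)).card := by exact_mod_cast hew.symm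
      have h6 : (c : ℝ) * ((orb P K (θ : K → ℂ)).card * (p * (e : ℝ) - (e : ℝ) ^ 2) - (p - 1))
          = c * (w * (p - e)) - c * (p - 1) := by
        rw [h5]
        ring
      rw [h6] at h3
      linarith

end five


/-! ### Residues of the degree -/

section residue

variable {G : Type u} [Group G] [Finite G] {p : ℕ}

theorem arith {p w c e t : ℕ} (h4 : 4 ≤ c) (h7 : 7 ≤ p) (hw : 2 ≤ w) (het : e * t = p - 1) (ht : 2 ≤ t) (he : e ∣ w) :
    w * p + c * (p - 1) < c * (w * (p - e)) := by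
  obtain ⟨q, rfl⟩ : ∃ q, p = q + 1 := ⟨p - 1, by omega⟩
  rw [Nat.add_sub_cancel] at het ⊢
  have h2e : 2 * e ≤ q := by nlinarith
  obtain ⟨f, hf⟩ : ∃ f, q = e + f := ⟨q - e, by omega⟩
  have h1 : q + 1 - e = f + 1 := by omega
  rw [h1]
  have he0 : 0 < e := by
    rcases Nat.eq_zero_or_pos e with h | h
    · rw [h, zero_mul] at het
      omega
    · exact h
  have hef : e ≤ f := by omega
  -- `4 (w (f + 1) - q) > w p`
  have key : w * (q + 1) + 4 * q < 4 * (w * (f + 1)) := by
    obtain ⟨m, rfl⟩ := he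
    have hm : 0 < m := by
      rcases Nat.eq_zero_or_pos m with h | h
      · rw [h] at hw
        omega
      · exact h
    rcases Nat.lt_or_ge e 2 with h | h
    · have : e = 1 := by omega
      subst this
      nlinarith
    · rcases Nat.lt_or_ge (e * m) 4 with h5 | h5
      · have hm1 : m = 1 := by nlinarith
        subst hm1
        rw [mul_one] at h5 ⊢
        interval_cases e <;> nlinarith
      · nlinarith
  have h2 : q ≤ w * (f + 1) := by nlinarith
  obtain ⟨a, ha⟩ : ∃ a, w * (f + 1) = q + a := ⟨w * (f + 1) - q, by omega⟩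
  rw [ha] at key ⊢
  nlinarith

theorem mod_of {d : ℕ} {k ε : ℤ} (hp : 1 < p) (hε : ε = 1 ∨ ε = -1) (h : (d : ℤ) = ε + p * k) :
    d % p = 1 ∨ d % p = p - 1 := by
  rcases hε with rfl | rfl
  · left
    have h1 : ((d : ℤ)) % p = 1 % p := by rw [h, Int.add_mul_emod_self_left]
    have h2 : (1 : ℤ) % p = 1 := Int.emod_eq_of_lt (by norm_num) (by exact_mod_cast hp)
    rw [h2] at h1
    exact_mod_cast h1
  · right
    have h1 : ((d + 1 : ℕ) : ℤ) % p = 0 := by
      push_cast
      rw [h]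
      have : (-1 + p * k + 1 : ℤ) = p * k := by ring
      rw [this]
      exact Int.mul_emod_right _ _
    have h2 : (d + 1) % p = 0 := by exact_mod_cast h1
    have h3 : d % p < p := Nat.mod_lt _ (by omega)
    have h4 : (d % p + 1) % p = 0 := by rwa [Nat.mod_add_mod]
    rcases Nat.lt_or_ge (d % p + 1) p with h5 | h5
    · rw [Nat.mod_eq_of_lt h5] at h4
      omega
    · omega

theorem normalizer_ne [IsSimpleGroup G] [Fact p.Prime] {P : Sylow p G} (hd : p ∣ Nat.card G) (hG : Nat.card G ≠ p) {w : ℕ}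
    (hw : (centralizer ((P : Subgroup G) : Set G)).relIndex (normalizer ((P : Subgroup G) : Set G)) = w) : 2 ≤ w := by
  rcases Nat.lt_or_ge w 2 with h | h
  · exfalso
    have h1 : w = 0 ∨ w = 1 := by omega
    rcases h1 with rfl | rfl
    · exact absurd hw (Subgroup.FiniteIndex.index_ne_zero)
    · rw [Subgroup.relIndex_eq_one] at hw
      exact hG (SmallSimple.Burnside.card_eq_of_normalizer_le_centralizer hd P hw)
  · exact h

variable [Fact p.Prime] {P : Sylow p G} {K : Subgroup G}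

/-- A character without zeros is linear. -/
theorem deg_one_of_no_zero {A : Type u} [Group A] [Finite A] (θ : IrrCharacter A) (h : ∀ a, (θ : A → ℂ) a ≠ 0) :
    (θ : A → ℂ) 1 = 1 := by
  obtain ⟨n, ρ, hρ, hθ⟩ := θ.2
  have h1 : ¬ 1 < Module.finrank ℂ (Fin n → ℂ) := by
    intro h1
    have := hρ
    obtain ⟨g, hg⟩ := S0191.result ρ h1
    exact h g (by rw [← hθ]; exact hg)
  have h2 : (θ : A → ℂ) 1 = (Module.finrank ℂ (Fin n → ℂ) : ℂ) := by rw [← hθ, Representation.char_one]
  have h3 : Module.finrank ℂ (Fin n → ℂ) ≠ 0 := by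
    intro h3
    apply h 1
    rw [h2, h3, Nat.cast_zero]
  have h4 : Module.finrank ℂ (Fin n → ℂ) = 1 := by omega
  rw [h2, h4, Nat.cast_one]

/-- **Residue of the degree, one `θ` in the orbit.** `w` is the index of the centralizer of `P` in the normalizer. -/
theorem mod_of_orb (hK : IsComp p (P : Subgroup G) K) (hP : Nat.card P = p) {χ : IrrCharacter G} {x : G} (h : One χ x)
    (hx : ¬ p ∣ orderOf x) {w : ℕ}
    (hw : (centralizer ((P : Subgroup G) : Set G)).relIndex (normalizer ((P : Subgroup G) : Set G)) = w)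
    (hexc : ∀ e t : ℕ, e * t = p - 1 → 2 ≤ t → e ∣ w →
      w * p + Nat.card (centralizer ({x} : Set G)) * (p - 1) < Nat.card (centralizer ({x} : Set G)) * (w * (p - e)))
    (horb : ∀ θ : IrrCharacter K, Nat.card (centralizer ({x} : Set G)) * (((orb P K (θ : K → ℂ)).card - 1) * (p - 1))
      ≤ w * p → (orb P K (θ : K → ℂ)).card ≤ 1) :
    charDegree (χ : G → ℂ) % p = 1 ∨ charDegree (χ : G → ℂ) % p = p - 1 := by
  classical
  obtain ⟨θ, ε, hε, hval, ⟨k, hk⟩, hc⟩ := five hK hP h hx hw hexc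
  have h1 : orb P K (θ : K → ℂ) = {θ} := by
    have hmem : θ ∈ orb P K (θ : K → ℂ) := mem_orb.2 ⟨1, one_mem _, tw_one _⟩
    have h2 := horb θ hc
    refine Finset.eq_singleton_iff_unique_mem.2 ⟨hmem, fun θ' hθ' => Finset.card_le_one.1 h2 _ hθ' _ hmem⟩
  have hpp : p.Prime := Fact.out
  obtain ⟨u, hu, hu1⟩ := exists_ne_one hP
  have h3 : ∀ y : K, (θ : K → ℂ) y ≠ 0 := by
    intro y hy
    have h4 : (χ : G → ℂ) (u * y) = 0 := by
      rw [hval u hu hu1 y, h1, Finset.sum_singleton, hy, mul_zero]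
    have h5 : p ∣ orderOf (u * (y : G)) := by
      classical
      have := Fintype.ofFinite G
      exact mem_Sg.1 (Dg_sub hK hP (mem_Dg.2 ⟨u, hu, hu1, y, y.2, rfl⟩))
    obtain ⟨a, ha⟩ := isConj_iff.1 (h.uniq _ h4)
    apply hx
    rwa [← ha, ← MulAut.conj_apply, MulEquiv.orderOf_eq] at h5
  have h6 := deg_one_of_no_zero θ h3
  rw [h1, Finset.sum_singleton, h6, mul_one] at hk
  have h7 : ((charDegree (χ : G → ℂ) : ℤ)) = ε + p * k := by
    have h8 := Cfsg.Agent.H686.CharKit.charDegree_irr χ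
    rw [hk] at h8
    exact_mod_cast h8
  exact mod_of hpp.one_lt hε h7

/-- `θ` is stable if elements of `K` of the same order are conjugate in `K`. -/
theorem card_orb_of_conj (hK : IsComp p (P : Subgroup G) K)
    (hcl : ∀ y y' : K, orderOf y = orderOf y' → IsConj y y') (θ : IrrCharacter K) :
    (orb P K (θ : K → ℂ)).card ≤ 1 := by
  rw [orb_of_stable θ.2]
  · simp
  · intro n hn
    funext y
    rw [tw_apply hK _ hn]
    refine (classFunction_apply_eq (isIrr_isClassFunction θ.2) ?_).symm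
    refine hcl _ _ ?_
    rw [← Subgroup.orderOf_coe, ← Subgroup.orderOf_coe]
    change orderOf ((y : G)) = orderOf (n * (y : G) * n⁻¹)
    rw [← MulAut.conj_apply, MulEquiv.orderOf_eq]

end residue

section final

variable {G : Type u} [Group G] [Finite G] [IsSimpleGroup G] {p : ℕ}

/-- The Sylow subgroup generated by an element of order `p`. -/
theorem exists_sylow (hp : p.Prime) (hsq : ¬ p ^ 2 ∣ Nat.card G) {z : G} (hz : orderOf z = p) :
    ∃ P : Sylow p G, (P : Subgroup G) = zpowers z ∧ Nat.card P = p := by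
  have hF : Fact p.Prime := ⟨hp⟩
  have hz' : Nat.card (zpowers z) = p := by rw [Nat.card_zpowers, hz]
  have hpg : IsPGroup p (zpowers z) := IsPGroup.of_card (n := 1) (by rw [hz', pow_one])
  have hidx : ¬ p ∣ (zpowers z).index := by
    intro hd
    apply hsq
    rw [← (zpowers z).card_mul_index, hz', pow_two]
    exact mul_dvd_mul_left p hd
  exact ⟨hpg.toSylow hidx, rfl, hz'⟩

/-- A power prime to `p` of an element of order `p` is a power prime to the group order. -/
theorem exists_coprime (hp : p.Prime) {x : G} (hx : orderOf x = p) {k : ℕ} (hk : ¬ p ∣ k) :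
    ∃ m : ℕ, m.Coprime (Nat.card G) ∧ x ^ m = x ^ k := by
  have hF : Fact p.Prime := ⟨hp⟩
  have hd : p ∣ Nat.card G := hx ▸ _root_.orderOf_dvd_natCard x
  have : NeZero (Nat.card G) := ⟨Nat.card_pos.ne'⟩
  have hco : k.Coprime p := ((hp.coprime_iff_not_dvd).2 hk).symm
  obtain ⟨u, hu⟩ := ZMod.unitsMap_surjective hd (ZMod.unitOfCoprime k hco)
  refine ⟨(u : ZMod (Nat.card G)).val, ZMod.val_coe_unit_coprime u, ?_⟩
  rw [pow_eq_pow_iff_modEq, hx]
  have h1 := congrArg (fun v : (ZMod p)ˣ => (v : ZMod p)) hu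
  rw [ZMod.unitsMap_def] at h1
  simp only [Units.coe_map, ZMod.coe_unitOfCoprime] at h1
  rw [← ZMod.natCast_eq_natCast_iff, ← h1]
  change (((u : ZMod (Nat.card G)).val : ℕ) : ZMod p) = ZMod.castHom hd (ZMod p) (u : ZMod (Nat.card G))
  rw [ZMod.castHom_apply, ZMod.natCast_val]

/-- The zero at an element of an isolated prime order. -/
theorem iso_sing (hp : p.Prime) (hsq : ¬ p ^ 2 ∣ Nat.card G) {z : G} (hz : orderOf z = p)
    (hC : Nat.card (centralizer ({z} : Set G)) = p) {χ : IrrCharacter G} {x : G} (h : One χ x) (hx : p ∣ orderOf x) :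
    p ∣ charDegree (χ : G → ℂ) ∧ orderOf x = p ∧ Nat.card (centralizer ({x} : Set G)) = p ∧
      ∀ g : G, orderOf g = p → IsConj x g := by
  classical
  have hF : Fact p.Prime := ⟨hp⟩
  obtain ⟨P, hPz, hP⟩ := exists_sylow hp hsq hz
  obtain ⟨K, hK⟩ := exists_isComp P hP
  have hzP : z ∈ (P : Subgroup G) := by rw [hPz]; exact mem_zpowers z
  have hz1 : z ≠ 1 := by
    rintro rfl
    rw [orderOf_one] at hz
    exact hp.one_lt.ne hz
  have hK1 : Nat.card K = 1 := by
    have h1 := card_centralizer hK hP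
    rw [← Blocks.CyclicOrtho.centralizer_eq P hP hzP hz1, hC] at h1
    have h2 := hp.pos
    nlinarith
  have hKb : ∀ y ∈ K, y = 1 := by
    intro y hy
    rw [card_eq_one.1 hK1] at hy
    exact mem_bot.1 hy
  have hcard : ∀ g c : G, Nat.card (centralizer ({c * g * c⁻¹} : Set G)) = Nat.card (centralizer ({g} : Set G)) := by
    intro g c
    refine Nat.card_congr ⟨fun y => ⟨c⁻¹ * y * c, ?_⟩, fun y => ⟨c * y * c⁻¹, ?_⟩, fun y => ?_, fun y => ?_⟩
    · have := mem_centralizer_singleton_iff.1 y.2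
      rw [mem_centralizer_singleton_iff]
      calc c⁻¹ * (y : G) * c * g = c⁻¹ * ((y : G) * (c * g * c⁻¹)) * c := by group
        _ = c⁻¹ * ((c * g * c⁻¹) * y) * c := by rw [this]
        _ = g * (c⁻¹ * y * c) := by group
    · have := mem_centralizer_singleton_iff.1 y.2
      rw [mem_centralizer_singleton_iff]
      calc c * (y : G) * c⁻¹ * (c * g * c⁻¹) = c * ((y : G) * g) * c⁻¹ := by group
        _ = c * (g * y) * c⁻¹ := by rw [this]
        _ = c * g * c⁻¹ * (c * y * c⁻¹) := by group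
    · exact Subtype.ext (by change c * (c⁻¹ * (y : G) * c) * c⁻¹ = y; group)
    · exact Subtype.ext (by change c⁻¹ * (c * (y : G) * c⁻¹) * c = y; group)
  obtain ⟨c, u, hu, hu1, y, hy, h1⟩ := exists_conj hK hP hx
  rw [hKb y hy, mul_one] at h1
  have hou : orderOf u = p := Blocks.CyclicOrtho.orderOf_eq P hP hu hu1
  have hox : orderOf x = p := by rw [← hou, h1, ← MulAut.conj_apply, MulEquiv.orderOf_eq]
  have hcu : Nat.card (centralizer ({u} : Set G)) = p := by
    rw [Blocks.CyclicOrtho.centralizer_eq P hP hu hu1, ← Blocks.CyclicOrtho.centralizer_eq P hP hzP hz1, hC]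
  have hall : ∀ g : G, orderOf g = p → IsConj x g := by
    intro g hg
    obtain ⟨c', u', hu', hu1', y', hy', h1'⟩ := exists_conj hK hP (g := g) (by rw [hg])
    rw [hKb y' hy', mul_one] at h1'
    -- `u'` is a power of `u`
    have h2 : zpowers u = (P : Subgroup G) := by
      refine eq_of_le_of_card_ge (by rwa [zpowers_le]) ?_
      rw [Nat.card_zpowers, hou]
      exact hP.le
    have h3 : u' ∈ zpowers u := by rw [h2]; exact hu'
    rw [← mem_powers_iff_mem_zpowers] at h3
    obtain ⟨k, hk⟩ := h3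
    have hk' : u ^ k = u' := hk
    have hkp : ¬ p ∣ k := by
      intro hd
      apply hu1'
      rw [← hk', ← orderOf_dvd_iff_pow_eq_one, hou]
      exact hd
    obtain ⟨m, hm, hmk⟩ := exists_coprime hp hou hkp
    have h4 := h.conj_pow hm
    have h5 : c * x ^ m * c⁻¹ = u' := by
      rw [← hk', ← hmk, h1]
      exact (conj_pow).symm
    exact (h4.trans (isConj_iff.2 ⟨c, h5⟩)).trans (isConj_iff.2 ⟨c', h1'.symm⟩).symm
  refine ⟨?_, hox, ?_, hall⟩
  · -- the degree
    obtain ⟨M, hM⟩ := Blocks.ExistsModular.exists_isPModular hp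
    have hMp : M.IsPrime := hM.2.1.isPrime
    have h2 := Cfsg.Agent.H732.VZ.av_mul_sub_mem hp hMp hM.2.2 χ (z := x) (v := 1) hox (Commute.one_right x)
      (by rw [orderOf_one]; exact fun h => hp.one_lt.ne' (Nat.dvd_one.1 h))
    rw [mul_one] at h2
    have h3 : Cfsg.Agent.H732.VZ.av χ x = 0 := Subtype.ext h.zero
    rw [h3, zero_sub, Ideal.neg_mem_iff] at h2
    have h4 : Cfsg.Agent.H732.VZ.av χ 1 = ((charDegree (χ : G → ℂ) : ℤ) : AlgInt) := by
      apply Subtype.ext
      rw [Cfsg.Agent.H732.VZ.av_coe, ← Cfsg.Agent.H686.CharKit.charDegree_irr χ]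
      simp
    rw [h4, Cfsg.Agent.H732.VZ.int_mem_iff hp hMp hM.2.2] at h2
    exact_mod_cast h2
  · rw [← hcard x c, ← h1, hcu]

/-- **The degree modulo an isolated prime `p ≥ 7`** (`|C(z)| = p`). -/
theorem iso (hp : p.Prime) (h7 : 7 ≤ p) (hsq : ¬ p ^ 2 ∣ Nat.card G) (hG : Nat.card G ≠ p) {z : G} (hz : orderOf z = p)
    (hC : Nat.card (centralizer ({z} : Set G)) = p) {χ : IrrCharacter G} {x : G} (h : One χ x)
    (h4 : 4 ≤ Nat.card (centralizer ({x} : Set G))) :
    charDegree (χ : G → ℂ) % p = 1 ∨ charDegree (χ : G → ℂ) % p = p - 1 ∨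
      (p ∣ charDegree (χ : G → ℂ) ∧ orderOf x = p ∧ Nat.card (centralizer ({x} : Set G)) = p ∧
        ∀ g : G, orderOf g = p → IsConj x g) := by
  classical
  by_cases hx : p ∣ orderOf x
  · exact Or.inr (Or.inr (iso_sing hp hsq hz hC h hx))
  · have hF : Fact p.Prime := ⟨hp⟩
    obtain ⟨P, hPz, hP⟩ := exists_sylow hp hsq hz
    obtain ⟨K, hK⟩ := exists_isComp P hP
    have hzP : z ∈ (P : Subgroup G) := by rw [hPz]; exact mem_zpowers z
    have hz1 : z ≠ 1 := by
      rintro rfl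
      rw [orderOf_one] at hz
      exact hp.one_lt.ne hz
    have hK1 : Nat.card K = 1 := by
      have h1 := card_centralizer hK hP
      rw [← Blocks.CyclicOrtho.centralizer_eq P hP hzP hz1, hC] at h1
      have h2 := hp.pos
      nlinarith
    have hsub : Subsingleton K := (Nat.card_eq_one_iff_unique.1 hK1).1
    have hd : p ∣ Nat.card G := hz ▸ _root_.orderOf_dvd_natCard z
    have hw2 := normalizer_ne hd hG (P := P) rfl
    rcases mod_of_orb hK hP h hx rfl (fun e t het ht he => arith h4 h7 hw2 het ht he) (fun θ _ =>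
      card_orb_of_conj hK (fun y y' _ => by rw [Subsingleton.elim y y']) θ) with h1 | h1
    · exact Or.inl h1
    · exact Or.inr (Or.inl h1)

/-- `x` is `p`-regular if `p ∥ |G|`, `|C(z)| > p` for `z` of order `p` and `|C(x)| ≤ p`. -/
theorem not_dvd_of_le (hp : p.Prime) (hsq : ¬ p ^ 2 ∣ Nat.card G)
    {z : G} (hz : orderOf z = p) (hC : p < Nat.card (centralizer ({z} : Set G))) {x : G}
    (hc : Nat.card (centralizer ({x} : Set G)) ≤ p) : ¬ p ∣ orderOf x := by
  classical
  intro hx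
  have hF : Fact p.Prime := ⟨hp⟩
  obtain ⟨P, hPz, hP⟩ := exists_sylow hp hsq hz
  obtain ⟨K, hK⟩ := exists_isComp P hP
  have hzP : z ∈ (P : Subgroup G) := by rw [hPz]; exact mem_zpowers z
  have hz1 : z ≠ 1 := by
    rintro rfl
    rw [orderOf_one] at hz
    exact hp.one_lt.ne hz
  obtain ⟨c, u, hu, hu1, y, hy, h1⟩ := exists_conj hK hP hx
  have hou : orderOf u = p := Blocks.CyclicOrtho.orderOf_eq P hP hu hu1
  -- `⟨u y⟩` has order at most `p`
  have hcy : Commute u y := hK.comm hu hy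
  have hco : (orderOf u).Coprime (orderOf y) := by
    rw [hou]
    exact (hp.coprime_iff_not_dvd).2 ((hK y).1 hy).2
  have hox : orderOf x = p * orderOf y := by
    have h2 := Commute.orderOf_mul_eq_mul_orderOf_of_coprime hcy hco
    rw [h1, ← MulAut.conj_apply, MulEquiv.orderOf_eq, hou] at h2
    exact h2
  have hle : orderOf x ≤ p := by
    refine le_trans ?_ hc
    rw [← Nat.card_zpowers]
    refine Nat.card_le_card_of_injective _ (Subgroup.inclusion_injective (H := zpowers x)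
      (K := centralizer ({x} : Set G)) ?_)
    rw [zpowers_le, mem_centralizer_singleton_iff]
  have hy1 : y = 1 := by
    have h3 : 0 < orderOf y := orderOf_pos y
    have h4 := hp.pos
    rw [hox] at hle
    have h5 : orderOf y = 1 := by nlinarith
    exact orderOf_eq_one_iff.1 h5
  rw [hy1, mul_one] at h1
  -- `|C(x)| = |C(u)| = |C(z)|`
  have hcu : Nat.card (centralizer ({u} : Set G)) = Nat.card (centralizer ({z} : Set G)) := by
    rw [Blocks.CyclicOrtho.centralizer_eq P hP hu hu1, ← Blocks.CyclicOrtho.centralizer_eq P hP hzP hz1]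
  have hcx : Nat.card (centralizer ({u} : Set G)) ≤ Nat.card (centralizer ({x} : Set G)) := by
    refine Nat.card_le_card_of_injective (fun y : centralizer ({u} : Set G) => (⟨c⁻¹ * y * c, ?_⟩ :
      centralizer ({x} : Set G))) ?_
    · have := mem_centralizer_singleton_iff.1 y.2
      rw [mem_centralizer_singleton_iff]
      have this' : (y : G) * (c * x * c⁻¹) = (c * x * c⁻¹) * y := by
        rw [← h1]
        exact this
      calc c⁻¹ * (y : G) * c * x = c⁻¹ * ((y : G) * (c * x * c⁻¹)) * c := by group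
        _ = c⁻¹ * ((c * x * c⁻¹) * y) * c := by rw [this']
        _ = x * (c⁻¹ * y * c) := by group
    · intro a b hab
      have h2 : c⁻¹ * (a : G) * c = c⁻¹ * (b : G) * c := congrArg Subtype.val hab
      exact Subtype.ext (mul_left_cancel (mul_right_cancel h2))
  omega

/-- **The degree modulo a prime `p ≥ 7`, `p ∥ |G|`, not isolated**, `x` `p`-regular, elements of `K` of the same order
conjugate in `K` (`K` the set of the `p`-regular elements of `C(z)`; for instance `|K| = 2` or `K ≅ S₃`). -/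
theorem mod_of_classes (hp : p.Prime) (h7 : 7 ≤ p) (hsq : ¬ p ^ 2 ∣ Nat.card G) (hG : Nat.card G ≠ p) {z : G}
    (hz : orderOf z = p) (hcl : ∀ y y' : G, z * y = y * z → z * y' = y' * z → ¬ p ∣ orderOf y → orderOf y = orderOf y' →
      ∃ k : G, z * k = k * z ∧ k * y * k⁻¹ = y')
    {χ : IrrCharacter G} {x : G} (h : One χ x) (hx : ¬ p ∣ orderOf x)
    (h4 : 4 ≤ Nat.card (centralizer ({x} : Set G))) :
    charDegree (χ : G → ℂ) % p = 1 ∨ charDegree (χ : G → ℂ) % p = p - 1 := by
  classical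
  have hF : Fact p.Prime := ⟨hp⟩
  obtain ⟨P, hPz, hP⟩ := exists_sylow hp hsq hz
  obtain ⟨K, hK⟩ := exists_isComp P hP
  have hzP : z ∈ (P : Subgroup G) := by rw [hPz]; exact mem_zpowers z
  have hz1 : z ≠ 1 := by
    rintro rfl
    rw [orderOf_one] at hz
    exact hp.one_lt.ne hz
  have hd : p ∣ Nat.card G := hz ▸ _root_.orderOf_dvd_natCard z
  have hw2 := normalizer_ne hd hG (P := P) rfl
  have hCz : ∀ y, y ∈ K → z * y = y * z := fun y hy => hK.comm hzP hy
  refine mod_of_orb hK hP h hx rfl (fun e t het ht he => arith h4 h7 hw2 het ht he) (fun θ _ =>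
      card_orb_of_conj hK (fun y y' hyy => ?_) θ)
  obtain ⟨k, hk, hky⟩ := hcl y y' (hCz y y.2) (hCz y' y'.2) ((hK y).1 y.2).2 (by
    rw [Subgroup.orderOf_coe, Subgroup.orderOf_coe]
    exact hyy)
  -- the `p`-regular part of `k`
  have hkC : k ∈ centralizer ((P : Subgroup G) : Set G) := by
    rw [← Blocks.CyclicOrtho.centralizer_eq P hP hzP hz1, mem_centralizer_singleton_iff]
    exact hk.symm
  obtain ⟨a, ha, b, hb, hab⟩ := hK.exists_mul hP hkC
  refine isConj_iff.2 ⟨⟨b, hb⟩, Subtype.ext ?_⟩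
  change b * (y : G) * b⁻¹ = y'
  have h1 : a * (b * (y : G) * b⁻¹) = (b * (y : G) * b⁻¹) * a :=
    hK.comm ha (mul_mem (mul_mem hb y.2) (inv_mem hb))
  rw [← hky, ← hab]
  calc b * (y : G) * b⁻¹ = (b * (y : G) * b⁻¹ * a) * a⁻¹ := by group
    _ = (a * (b * (y : G) * b⁻¹)) * a⁻¹ := by rw [h1]
    _ = a * b * y * (a * b)⁻¹ := by group

/-- **The degree modulo a prime `p ≥ 7`, `p ∥ |G|`, `|C(z)| = 2 p`**, `x` `p`-regular. -/
theorem mod_of_two (hp : p.Prime) (h7 : 7 ≤ p) (hsq : ¬ p ^ 2 ∣ Nat.card G) (hG : Nat.card G ≠ p) {z : G}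
    (hz : orderOf z = p) (hC : Nat.card (centralizer ({z} : Set G)) = 2 * p)
    {χ : IrrCharacter G} {x : G} (h : One χ x) (hx : ¬ p ∣ orderOf x)
    (h4 : 4 ≤ Nat.card (centralizer ({x} : Set G))) :
    charDegree (χ : G → ℂ) % p = 1 ∨ charDegree (χ : G → ℂ) % p = p - 1 := by
  classical
  have hF : Fact p.Prime := ⟨hp⟩
  obtain ⟨P, hPz, hP⟩ := exists_sylow hp hsq hz
  obtain ⟨K, hK⟩ := exists_isComp P hP
  have hzP : z ∈ (P : Subgroup G) := by rw [hPz]; exact mem_zpowers z
  have hz1 : z ≠ 1 := by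
    rintro rfl
    rw [orderOf_one] at hz
    exact hp.one_lt.ne hz
  have hd : p ∣ Nat.card G := hz ▸ _root_.orderOf_dvd_natCard z
  have hw2 := normalizer_ne hd hG (P := P) rfl
  have hK2 : Nat.card K = 2 := by
    have h1 := card_centralizer hK hP
    rw [← Blocks.CyclicOrtho.centralizer_eq P hP hzP hz1, hC] at h1
    have h2 := hp.pos
    nlinarith
  refine mod_of_orb hK hP h hx rfl (fun e t het ht he => arith h4 h7 hw2 het ht he) (fun θ _ =>
      card_orb_of_conj hK (fun y y' hyy => ?_) θ)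
  have : y = y' := by
    obtain ⟨a, b, hab, hall⟩ := Nat.card_eq_two_iff.1 hK2
    have h1 : ∀ s : K, s = a ∨ s = b := fun s => by
      have : s ∈ ({a, b} : Set K) := by rw [hall]; trivial
      simpa using this
    by_cases hy : y = 1
    · rw [hy, orderOf_one] at hyy
      rw [hy, orderOf_eq_one_iff.1 hyy.symm]
    · have hy' : y' ≠ 1 := by
        intro h2
        rw [h2, orderOf_one] at hyy
        exact hy (orderOf_eq_one_iff.1 hyy)
      rcases h1 1 with h2 | h2 <;> rcases h1 y with h3 | h3 <;> rcases h1 y' with h4 | h4 <;> simp_all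
  rw [this]

end final

end Cfsg.Agent.H849.OZ
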