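import Cfsg.Agent.H730.OZ.Known
import Cfsg.Agent.H121.OZ.JTwo
import Cfsg.Agent.H109.OZ.RowHS
import Cfsg.Agent.H289.OZ.Th
import Cfsg.Agent.H320.OZ.RowFi22
import Cfsg.Agent.H328.OZ.Fi23
import Cfsg.Agent.H490.OZ.CoThree
import Cfsg.Agent.H490.OZ.CoTwo
import Cfsg.Agent.H399.OZ.Math
import Cfsg.Agent.H672.OZ.Rows
import Cfsg.Agent.H672.OZ.JThree
import Cfsg.Agent.H672.OZ.Mathieu
import Cfsg.Agent.H257.OZ.McLRow
import Cfsg.Agent.H257.OZ.SuzRow
import Cfsg.Agent.H30.OZ.He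
import Cfsg.Agent.H446.OZ.Ru
import Cfsg.Agent.H593.OZ.Fi24
import Cfsg.Agent.H601.OZ.RowB
import Cfsg.Agent.H678.OZ.RowCoOne
import Cfsg.Agent.H604.OZ.HNRow
import Cfsg.Agent.H733.OZ.RowMOf

/-!
# S4842: the sporadic groups (helper849)
-/

set_option autoImplicit false

open Cfsg

namespace Cfsg.Agent.H849.OZ.RowSpor

open Cfsg.Agent

universe u

/-- **The sporadic groups.** -/
theorem row_sporadic (hK : H995.CopEngine.AllKnown.{0})
    {S : Type u} [Group S] [Finite S] (hs : IsSimpleGroup S) (h : IsSporadicGroup S) : H730.OZ.Row S := by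
  have h3 : Cfsg.Agent.H715.Mon.Grp.SThree.{0} := Cfsg.Agent.H715.Mon.Grp.sThree ⟨OrdDiv.table, hK⟩
  rcases h with h | h | h | h | h | h | h | h | h | h | h | h | h | h | h | h | h | h | h | h | h | h | h | h | h | h
  · exact H399.OZ.row_m11 hs h
  · exact H399.OZ.row_m12 hs h
  · exact H399.OZ.row_m22 hs h
  · exact H672.OZ.row_m23 hs h
  · exact H672.OZ.row_m24 hs h
  · exact H672.OZ.row_j1 hs h
  · exact H121.OZ.JTwo.row_j2 hs h
  · exact H672.OZ.row_j3 hs h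
  · exact H672.OZ.row_j4 hs h
  · exact H678.OZ.row_co1 hs h
  · exact H490.OZ.row_co2 hs h
  · exact H490.OZ.row_co3 hs h
  · exact H257.OZ.row_mcl hs h
  · exact H109.OZ.row_hs hs h
  · exact H257.OZ.row_suz hs h
  · exact H30.OZ.row_he hs h
  · exact H446.OZ.Ru.row_ru hs h
  · exact H672.OZ.row_on hs h
  · exact H672.OZ.row_ly hK hs h
  · exact H320.OZ.row_fi22 hs h
  · exact H328.OZ.Fi23.row_fi23 hs h
  · exact H593.OZ.row_fi24 hs h
  · exact H604.OZ.HN.row_hn hs h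
  · exact H289.OZ.row_th hs h
  · exact H601.OZ.row_b hK hs h
  · exact H733.OZ.Mon.row_m_of hK h3 hs h

end Cfsg.Agent.H849.OZ.RowSpor
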